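import Mathlib
import Cfsg.Agent.Mrg.RankTwoClose.UFour.ModelTorus
import Cfsg.Agent.Mrg.Omega.ExitsThree
import Cfsg.Agent.Mrg.RankTwoClose.Braid

-- merged: Cfsg.Agent.Mrg.RankTwoClose.UFour.Algebra
section

section


/-!
Two modules interchanged by `n`, an operator `h` inverted by `n`, everything commuting with an
irreducible commutative set of operators: whatever commutes with the set and with `h` keeps the
modules.
-/

set_option autoImplicit false

namespace Cfsg.Agent.RankTwoClose.UFour.Algebra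

variable {M : Type*} [AddCommGroup M]

theorem stable (W W' : AddSubgroup M) (hdis : ∀ m ∈ W, m ∈ W' → m = 0)
    (hsup : ∀ m : M, ∃ w ∈ W, ∃ w' ∈ W', m = w + w')
    (A : Set (AddMonoid.End M)) (hcomm : ∀ a ∈ A, ∀ b ∈ A, a * b = b * a)
    (hAW : ∀ a ∈ A, ∀ w ∈ W, a w ∈ W) (hAW' : ∀ a ∈ A, ∀ w ∈ W', a w ∈ W')
    (irr : ∀ T : AddSubgroup M, T ≤ W → (∀ a ∈ A, ∀ t ∈ T, a t ∈ T) → (∃ t ∈ T, t ≠ 0) → W ≤ T)
    (h n τ : AddMonoid.End M) (hA : ∀ a ∈ A, a * h = h * a) (nA : ∀ a ∈ A, a * n = n * a)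
    (τA : ∀ a ∈ A, a * τ = τ * a) (τh : τ * h = h * τ)
    (hW : ∀ w ∈ W, h w ∈ W) (hW' : ∀ w ∈ W', h w ∈ W')
    (nsurj : ∀ w' ∈ W', ∃ w ∈ W, n w = w') (ninj : ∀ m, n m = 0 → m = 0)
    (hnh : ∀ m, h (n (h m)) = n m) (hsurj : ∀ w ∈ W, ∃ w₂ ∈ W, h w₂ = w)
    (hh : ∀ w ∈ W, h (h w) = w → w = 0) : ∀ w ∈ W, τ w ∈ W := by
  intro w hw
  by_cases hw0 : w = 0
  · rw [hw0, map_zero]; exact zero_mem _
  -- the subring generated by `A`
  let R : Subring (AddMonoid.End M) := Subring.closure A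
  have hRW : ∀ p ∈ R, ∀ w ∈ W, p w ∈ W := by
    intro p hp
    induction hp using Subring.closure_induction with
    | mem x hx => exact hAW x hx
    | zero => intro w _; simpa using zero_mem W
    | one => intro w hw; simpa using hw
    | add x y _ _ hx hy =>
      intro w hw
      exact add_mem (hx w hw) (hy w hw)
    | neg x _ hx =>
      intro w hw
      exact neg_mem (hx w hw)
    | mul x y _ _ hx hy =>
      intro w hw
      exact hx _ (hy w hw)
  have hRW' : ∀ p ∈ R, ∀ w ∈ W', p w ∈ W' := by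
    intro p hp
    induction hp using Subring.closure_induction with
    | mem x hx => exact hAW' x hx
    | zero => intro w _; simpa using zero_mem W'
    | one => intro w hw; simpa using hw
    | add x y _ _ hx hy =>
      intro w hw
      exact add_mem (hx w hw) (hy w hw)
    | neg x _ hx =>
      intro w hw
      exact neg_mem (hx w hw)
    | mul x y _ _ hx hy =>
      intro w hw
      exact hx _ (hy w hw)
  have hRc : ∀ g : AddMonoid.End M, (∀ a ∈ A, a * g = g * a) → ∀ p ∈ R, p * g = g * p := by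
    intro g hg p hp
    induction hp using Subring.closure_induction with
    | mem x hx => exact hg x hx
    | zero => rw [zero_mul, mul_zero]
    | one => rw [one_mul, mul_one]
    | add x y _ _ hx hy => rw [add_mul, mul_add, hx, hy]
    | neg x _ hx => rw [neg_mul, mul_neg, hx]
    | mul x y _ _ hx hy => rw [mul_assoc, hy, ← mul_assoc, hx, mul_assoc]
  have hRR : ∀ p ∈ R, ∀ g ∈ R, g * p = p * g := by
    intro p hp g hg
    exact hRc p (fun a ha => (hRc a (fun b hb => hcomm b hb a ha) p hp).symm) g hg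
  -- the cyclic module
  let T : AddSubgroup M :=
    { carrier := {m | ∃ p ∈ R, p w = m}
      zero_mem' := ⟨0, zero_mem _, rfl⟩
      add_mem' := by
        rintro _ _ ⟨p, hp, rfl⟩ ⟨q, hq, rfl⟩
        exact ⟨p + q, add_mem hp hq, rfl⟩
      neg_mem' := by
        rintro _ ⟨p, hp, rfl⟩
        exact ⟨-p, neg_mem hp, rfl⟩ }
  have hT : ∀ {m}, m ∈ T ↔ ∃ p ∈ R, p w = m := fun {m} => Iff.rfl
  have hWT : W ≤ T := by
    refine irr T ?_ ?_ ⟨w, hT.mpr ⟨1, one_mem _, rfl⟩, hw0⟩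
    · rintro m hm
      obtain ⟨p, hp, rfl⟩ := hT.mp hm
      exact hRW p hp w hw
    · intro a ha t ht
      obtain ⟨p, hp, rfl⟩ := hT.mp ht
      exact hT.mpr ⟨a * p, mul_mem (Subring.subset_closure ha) hp, rfl⟩
  obtain ⟨p, hp, hpw⟩ := hT.mp (hWT (hW w hw))
  -- `p = h` on `W`
  have hph : ∀ v ∈ W, p v = h v := by
    intro v hv
    obtain ⟨q, hq, rfl⟩ := hT.mp (hWT hv)
    have h1 : p (q w) = q (p w) := congrArg (fun f : AddMonoid.End M => f w) (hRR q hq p hp)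
    have h2 : h (q w) = q (h w) :=
      (congrArg (fun f : AddMonoid.End M => f w) (hRc h hA q hq)).symm
    rw [h1, h2, hpw]
  -- the image of `w`
  obtain ⟨u, hu, u', hu', huu⟩ := hsup (τ w)
  have h1 : p (τ w) = h (τ w) := by
    have e1 : p (τ w) = τ (p w) :=
      congrArg (fun f : AddMonoid.End M => f w) (hRc τ τA p hp)
    have e2 : τ (h w) = h (τ w) := congrArg (fun f : AddMonoid.End M => f w) τh
    rw [e1, hpw, e2]
  have h2 : p u' = h u' := by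
    rw [huu, map_add, map_add] at h1
    have h3 : p u' - h u' ∈ W' := sub_mem (hRW' p hp u' hu') (hW' u' hu')
    have h4 : p u' - h u' = h u - p u := by
      rw [sub_eq_sub_iff_add_eq_add, add_comm (p u'), add_comm (h u)]
      rw [h1]; abel
    have h5 : p u' - h u' ∈ W := by rw [h4]; exact sub_mem (hW u hu) (hRW p hp u hu)
    exact sub_eq_zero.mp (hdis _ h5 h3)
  obtain ⟨w1, hw1, hnw1⟩ := nsurj u' hu'
  obtain ⟨w2, hw2, hhw2⟩ := hsurj w1 hw1
  have h3 : h u' = n w2 := by rw [← hnw1, ← hhw2]; exact hnh w2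
  have h4 : p u' = n (h (h w2)) := by
    rw [← hnw1]
    have e1 : p (n w1) = n (p w1) := congrArg (fun f : AddMonoid.End M => f w1) (hRc n nA p hp)
    rw [e1, hph w1 hw1, ← hhw2]
  have h5 : n (h (h w2) - w2) = 0 := by rw [map_sub, ← h4, ← h3, h2, sub_self]
  have h6 : w2 = 0 := hh w2 hw2 (sub_eq_zero.mp (ninj _ h5))
  have h7 : u' = 0 := by rw [← hnw1, ← hhw2, h6, map_zero, map_zero]
  rw [huu, h7, add_zero]
  exact hu

end Cfsg.Agent.RankTwoClose.UFour.Algebra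

end

section


/-!
Type `U4(q)`: a `2`-element of `C_G(z) ∩ C_G(A0 H2)` lies in `Z`.
-/

set_option autoImplicit false
set_option linter.unusedSectionVars false

namespace Cfsg.Agent.RankTwoClose.UFour

variable {G : Type*} [Group G]

section Act

variable (Q Z : Subgroup G)

/-- Conjugation on `Q/Z`. -/
def act [(Z.subgroupOf Q).Normal] (g : G) (hQ : g ∈ Subgroup.normalizer (Q : Set G))
    (hZ : g ∈ Subgroup.normalizer (Z : Set G)) :
    (Q ⧸ Z.subgroupOf Q) →* (Q ⧸ Z.subgroupOf Q) :=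
  QuotientGroup.map _ _
    { toFun := fun x => ⟨g * x * g⁻¹, conj_mem hQ x.2⟩
      map_one' := Subtype.ext (by simp)
      map_mul' := fun x y => Subtype.ext (by simp) }
    (by
      rintro ⟨x, hx⟩ hxZ
      rw [Subgroup.mem_subgroupOf] at hxZ
      rw [Subgroup.mem_comap, Subgroup.mem_subgroupOf]
      exact conj_mem hZ hxZ)

/-- The class of `a` in `Q/Z`. -/
def mk [(Z.subgroupOf Q).Normal] (a : G) (ha : a ∈ Q) : Q ⧸ Z.subgroupOf Q :=
  QuotientGroup.mk (⟨a, ha⟩ : Q)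

variable {Q Z}

theorem act_mk [(Z.subgroupOf Q).Normal] {g : G} {hQ : g ∈ Subgroup.normalizer (Q : Set G)}
    {hZ : g ∈ Subgroup.normalizer (Z : Set G)} {a : G} {ha : a ∈ Q} :
    act Q Z g hQ hZ (mk Q Z a ha) = mk Q Z (g * a * g⁻¹) (conj_mem hQ ha) := rfl

theorem mk_eq_mk [(Z.subgroupOf Q).Normal] {a b : G} {ha : a ∈ Q} {hb : b ∈ Q} :
    mk Q Z a ha = mk Q Z b hb ↔ a⁻¹ * b ∈ Z := by
  unfold mk
  rw [QuotientGroup.eq, Subgroup.mem_subgroupOf]
  rfl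

theorem mk_eq_one [(Z.subgroupOf Q).Normal] {a : G} {ha : a ∈ Q} :
    mk Q Z a ha = 1 ↔ a ∈ Z := by
  unfold mk
  rw [QuotientGroup.eq_one_iff, Subgroup.mem_subgroupOf]

theorem mk_congr [(Z.subgroupOf Q).Normal] {a b : G} {ha : a ∈ Q} {hb : b ∈ Q} (h : a = b) :
    mk Q Z a ha = mk Q Z b hb := by
  subst h; rfl

theorem mk_mul [(Z.subgroupOf Q).Normal] {a b : G} {ha : a ∈ Q} {hb : b ∈ Q} :
    mk Q Z (a * b) (mul_mem ha hb) = mk Q Z a ha * mk Q Z b hb := rfl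

theorem exists_mk [(Z.subgroupOf Q).Normal] (m : Q ⧸ Z.subgroupOf Q) :
    ∃ (a : G) (ha : a ∈ Q), m = mk Q Z a ha := by
  obtain ⟨⟨a, ha⟩, rfl⟩ := QuotientGroup.mk_surjective m
  exact ⟨a, ha, rfl⟩

end Act

/-- An element of odd order fixing `y` modulo a central elementary `2`-group fixes `y`. -/
theorem comm_of_odd {H : Subgroup G} (hH : Odd (Nat.card H)) {h y z : G} (hh : h ∈ H)
    (hz : h * y * h⁻¹ = z * y) (hhz : h * z = z * h) (hzz : z * z = 1) : h * y = y * h := by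
  have key : ∀ n : ℕ, h ^ n * y * (h ^ n)⁻¹ = z ^ n * y := by
    intro n
    induction n with
    | zero => simp
    | succ n ih =>
      have hc : h ^ n * z = z * h ^ n := by
        have : Commute h z := hhz
        exact (this.pow_left n)
      calc h ^ (n + 1) * y * (h ^ (n + 1))⁻¹ = h ^ n * (h * y * h⁻¹) * (h ^ n)⁻¹ := by
            rw [pow_succ]; group
        _ = h ^ n * z * y * (h ^ n)⁻¹ := by rw [hz]; group
        _ = z * (h ^ n * y * (h ^ n)⁻¹) := by rw [hc]; group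
        _ = z ^ (n + 1) * y := by rw [ih, pow_succ']; group
  obtain ⟨m, hm⟩ := hH
  have h1 : h ^ (2 * m + 1) = 1 := by
    rw [← hm]
    exact congrArg Subtype.val (pow_card_eq_one' (x := (⟨h, hh⟩ : H)))
  have h2 := key (2 * m + 1)
  rw [h1] at h2
  have h3 : z ^ (2 * m + 1) = z := by
    rw [pow_succ, pow_mul, pow_two, hzz, one_pow, one_mul]
  rw [h3] at h2
  have h4 : z = 1 := by
    have h5 : y = z * y := by simpa using h2
    exact (right_eq_mul.mp h5)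
  calc h * y = (h * y * h⁻¹) * h := by group
    _ = y * h := by rw [hz, h4, one_mul]

/-- A `2`-element commuting with `A0` is trivial on an `A0`-irreducible elementary section. -/
theorem trivial_of_comm {A Z Y : Subgroup G} (hYY : ∀ y ∈ Y, ∀ y' ∈ Y, y * y' = y' * y)
    (hsq : ∀ y ∈ Y, y * y = 1)
    (hZY : Z ≤ Y) (hAZ : A ≤ Subgroup.normalizer (Z : Set G))
    (hAY : A ≤ Subgroup.normalizer (Y : Set G))
    (irr : ∀ R : Subgroup G, Z ≤ R → R ≤ Y → A ≤ Subgroup.normalizer (R : Set G) → R = Z ∨ R = Y) :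
    ∀ (k : ℕ) (τ : G), τ ^ 2 ^ k = 1 → (∀ a ∈ A, τ * a = a * τ) →
      τ ∈ Subgroup.normalizer (Z : Set G) → τ ∈ Subgroup.normalizer (Y : Set G) →
      ∀ y ∈ Y, τ * y * τ⁻¹ * y⁻¹ ∈ Z := by
  intro k
  induction k with
  | zero =>
    intro τ hτ _ _ _ y _
    rw [pow_zero, pow_one] at hτ
    rw [hτ, show (1 : G) * y * 1⁻¹ * y⁻¹ = 1 by group]
    exact one_mem _
  | succ k ih =>
    intro τ hτ hA hZ hY
    have h2 : ∀ y ∈ Y, τ * τ * y * (τ * τ)⁻¹ * y⁻¹ ∈ Z := by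
      refine ih (τ * τ) ?_ (fun a ha => ?_) (mul_mem hZ hZ) (mul_mem hY hY)
      · rw [← pow_two, ← pow_mul, ← pow_succ']; exact hτ
      · rw [mul_assoc, hA a ha, ← mul_assoc, hA a ha, mul_assoc]
    have hYZ : Y ≤ Subgroup.normalizer (Z : Set G) := by
      refine le_normalizer_of fun y hy x hx => ?_
      rw [mem_cj] at hx
      have hx' : x = y⁻¹ * x * y := by
        have e := hYY _ (hZY hx) y hy
        calc x = y * (y⁻¹ * x * y) * y⁻¹ := by group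
          _ = (y⁻¹ * x * y) * y * y⁻¹ := by rw [e]
          _ = y⁻¹ * x * y := by group
      rw [hx']; exact hx
    let T : Subgroup G :=
      { carrier := {y | y ∈ Y ∧ τ * y * τ⁻¹ * y⁻¹ ∈ Z}
        one_mem' := ⟨one_mem _, by rw [show τ * 1 * τ⁻¹ * 1⁻¹ = 1 by group]; exact one_mem _⟩
        mul_mem' := by
          rintro a b ⟨ha, ha2⟩ ⟨hb, hb2⟩
          refine ⟨mul_mem ha hb, ?_⟩
          have e : τ * (a * b) * τ⁻¹ * (a * b)⁻¹ =
            (τ * a * τ⁻¹ * a⁻¹) * (a * (τ * b * τ⁻¹ * b⁻¹) * a⁻¹) := by group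
          rw [e]
          exact mul_mem ha2 (conj_mem (hYZ ha) hb2)
        inv_mem' := by
          rintro a ⟨ha, ha2⟩
          refine ⟨inv_mem ha, ?_⟩
          have h1 := inv_mem ha2
          have h2 := conj_mem' (hYZ ha) h1
          rwa [show a⁻¹ * (τ * a * τ⁻¹ * a⁻¹)⁻¹ * a = τ * a⁻¹ * τ⁻¹ * a⁻¹⁻¹ by group] at h2 }
    have hT : ∀ {y}, y ∈ T ↔ y ∈ Y ∧ τ * y * τ⁻¹ * y⁻¹ ∈ Z := fun {y} => Iff.rfl
    have hAT : A ≤ Subgroup.normalizer (T : Set G) := by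
      refine le_normalizer_of fun a ha x hx => ?_
      rw [mem_cj] at hx
      obtain ⟨hx1, hx2⟩ := hT.mp hx
      refine hT.mpr ⟨?_, ?_⟩
      · have := conj_mem (hAY ha) hx1
        rwa [show a * (a⁻¹ * x * a) * a⁻¹ = x by group] at this
      · have h3 := conj_mem (hAZ ha) hx2
        have e : a * (τ * (a⁻¹ * x * a) * τ⁻¹ * (a⁻¹ * x * a)⁻¹) * a⁻¹ =
            (a * τ * a⁻¹) * x * (a * τ * a⁻¹)⁻¹ * x⁻¹ := by group
        rw [e, show a * τ * a⁻¹ = τ by rw [← hA a ha]; group] at h3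
        exact h3
    rcases irr T (fun x hx => hT.mpr ⟨hZY hx, mul_mem (conj_mem hZ hx) (inv_mem hx)⟩)
      (fun x hx => (hT.mp hx).1) hAT with h | h
    · -- `T = Z`: contradiction unless `Y = Z`
      intro y hy
      have h3 : (τ * y * τ⁻¹) * y ∈ T := by
        refine hT.mpr ⟨mul_mem (conj_mem hY hy) hy, ?_⟩
        have h4 := h2 y hy
        set w := τ * τ * y * (τ * τ)⁻¹ * y⁻¹ with hw
        have e1 : τ * τ * y * (τ * τ)⁻¹ = w * y := by rw [hw]; group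
        have hwY : w ∈ Y := hZY h4
        have hyy := hYY y hy (τ * y * τ⁻¹) (conj_mem hY hy)
        have e : τ * (τ * y * τ⁻¹ * y) * τ⁻¹ * (τ * y * τ⁻¹ * y)⁻¹ =
            (τ * τ * y * (τ * τ)⁻¹) * (τ * y * τ⁻¹) * (τ * y * τ⁻¹ * y)⁻¹ := by group
        rw [e, e1, ← hyy, show w * y * (τ * y * τ⁻¹) * (y * (τ * y * τ⁻¹))⁻¹ = w by group]
        exact h4
      rw [h] at h3
      have e : τ * y * τ⁻¹ * y⁻¹ = τ * y * τ⁻¹ * y := by
        rw [inv_eq_of_mul_eq_one_left (hsq y hy)]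
      rw [e]; exact h3
    · intro y hy
      rw [← h] at hy
      exact (hT.mp hy).2

namespace Data

variable {S V U Z Y L1 L2 Q H A0 : Subgroup G} {n1 n2 : G}

section Torus

variable (D : Data S V U Z Y L1 L2 Q H A0 n1 n2)
include D

theorem ZQ : Z ≤ Q := D.ZY.trans D.YQ

theorem QZ : Q ≤ Subgroup.normalizer (Z : Set G) := by
  refine le_normalizer_of fun q hq x hx => ?_
  rw [mem_cj] at hx
  have h1 := D.zu hx (D.QU hq)
  have h2 : x = q⁻¹ * x * q := by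
    calc x = q * (q⁻¹ * x * q) * q⁻¹ := by group
      _ = (q⁻¹ * x * q) * q * q⁻¹ := by rw [h1]
      _ = q⁻¹ * x * q := by group
  rw [h2]; exact hx

theorem normalZ : (Z.subgroupOf Q).Normal := by
  rw [Subgroup.normal_subgroupOf_iff_le_normalizer D.ZQ]
  exact D.QZ

theorem n2Z : n2 ∈ Subgroup.normalizer (Z : Set G) := mem_norm_iff.mpr (D.cj_Z_of_L2 D.P2.nL)

theorem conjY' {y : G} (hy : y ∈ Y) : n2 * y * n2⁻¹ ∈ cj n2 Y := conj_mem_cj hy

theorem HY' {h : G} (hh : h ∈ H) : h ∈ Subgroup.normalizer ((cj n2 Y : Subgroup G) : Set G) :=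
  norm_cj (D.HY (conj_mem' (mem_norm_iff.mpr D.n2H) hh))

theorem n2h {h : G} (hh : h ∈ H ⊓ L2) : h * n2 * h = n2 := by
  have h1 := D.H2inv h hh
  calc h * n2 * h = h * (n2 * h * n2⁻¹) * n2 := by group
    _ = n2 := by rw [h1]; group

variable [Finite G]

/-- `h² ` is fixed point free on `Y/Z` for `1 ≠ h ∈ H2`. -/
theorem free {h : G} (hh : h ∈ H ⊓ L2) (hh1 : h ≠ 1) {y : G} (hy : y ∈ Y)
    (hf : h * h * y * (h * h)⁻¹ * y⁻¹ ∈ Z) : y ∈ Z := by
  have hhH := (Subgroup.mem_inf.mp hh).1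
  have hhL := (Subgroup.mem_inf.mp hh).2
  have hk : h * h ∈ H ⊓ L2 := mul_mem hh hh
  set k := h * h with hkdef
  have hkH := (Subgroup.mem_inf.mp hk).1
  have hkL := (Subgroup.mem_inf.mp hk).2
  let T : Subgroup G :=
    { carrier := {y | y ∈ Y ∧ k * y * k⁻¹ * y⁻¹ ∈ Z}
      one_mem' := ⟨one_mem _, by rw [show k * 1 * k⁻¹ * 1⁻¹ = 1 by group]; exact one_mem _⟩
      mul_mem' := by
        rintro a b ⟨ha, ha2⟩ ⟨hb, hb2⟩
        refine ⟨mul_mem ha hb, ?_⟩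
        have e : k * (a * b) * k⁻¹ * (a * b)⁻¹ =
          (k * a * k⁻¹ * a⁻¹) * (a * (k * b * k⁻¹ * b⁻¹) * a⁻¹) := by group
        rw [e]
        exact mul_mem ha2 (conj_mem (D.QZ (D.YQ ha)) hb2)
      inv_mem' := by
        rintro a ⟨ha, ha2⟩
        refine ⟨inv_mem ha, ?_⟩
        have h1 := inv_mem ha2
        have h2 := conj_mem' (D.QZ (D.YQ ha)) h1
        rwa [show a⁻¹ * (k * a * k⁻¹ * a⁻¹)⁻¹ * a = k * a⁻¹ * k⁻¹ * a⁻¹⁻¹ by group] at h2 }
  have hT : ∀ {y}, y ∈ T ↔ y ∈ Y ∧ k * y * k⁻¹ * y⁻¹ ∈ Z := fun {y} => Iff.rfl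
  have hAT : A0 ≤ Subgroup.normalizer (T : Set G) := by
    refine le_normalizer_of fun a ha x hx => ?_
    rw [mem_cj] at hx
    obtain ⟨hx1, hx2⟩ := hT.mp hx
    refine hT.mpr ⟨?_, ?_⟩
    · have := conj_mem (D.HY (D.AH ha)) hx1
      rwa [show a * (a⁻¹ * x * a) * a⁻¹ = x by group] at this
    · have h3 := conj_mem (D.HZ (D.AH ha)) hx2
      have e : a * (k * (a⁻¹ * x * a) * k⁻¹ * (a⁻¹ * x * a)⁻¹) * a⁻¹ =
          (a * k * a⁻¹) * x * (a * k * a⁻¹)⁻¹ * x⁻¹ := by group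
      rw [e, show a * k * a⁻¹ = k by rw [D.h2A ha hk]; group] at h3
      exact h3
  rcases D.irrY T (fun x hx => hT.mpr ⟨D.ZY hx,
      mul_mem (conj_mem (D.HZ hkH) hx) (inv_mem hx)⟩)
    (fun x hx => (hT.mp hx).1) hAT with h1 | h1
  · rw [← h1]; exact hT.mpr ⟨hy, hf⟩
  · exfalso
    have h2 : ∀ y ∈ Y, k * y * k⁻¹ * y⁻¹ ∈ Z := fun y hy => (hT.mp (h1 ▸ hy)).2
    have h3 : ∀ y ∈ cj n2 Y, k * y * k⁻¹ * y⁻¹ ∈ Z := by
      intro y hy
      rw [mem_cj] at hy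
      have h4 := h2 _ hy
      have h5 : n2⁻¹ * k * n2 = k⁻¹ := by
        have := D.n2h hk
        calc n2⁻¹ * k * n2 = n2⁻¹ * (k * n2 * k) * k⁻¹ := by group
          _ = k⁻¹ := by rw [this]; group
      -- use `k⁻¹`
      have h6 : k⁻¹ * (n2⁻¹ * y * n2) * k⁻¹⁻¹ * (n2⁻¹ * y * n2)⁻¹ ∈ Z := by
        have h7 := conj_mem' (D.HZ hkH) (inv_mem h4)
        rwa [show k⁻¹ * (k * (n2⁻¹ * y * n2) * k⁻¹ * (n2⁻¹ * y * n2)⁻¹)⁻¹ * k =
          k⁻¹ * (n2⁻¹ * y * n2) * k⁻¹⁻¹ * (n2⁻¹ * y * n2)⁻¹ by group] at h7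
      have h8 := conj_mem D.n2Z h6
      have e : n2 * (k⁻¹ * (n2⁻¹ * y * n2) * k⁻¹⁻¹ * (n2⁻¹ * y * n2)⁻¹) * n2⁻¹ =
          (n2 * k⁻¹ * n2⁻¹) * y * (n2 * k⁻¹ * n2⁻¹)⁻¹ * y⁻¹ := by group
      rw [e, show n2 * k⁻¹ * n2⁻¹ = k by rw [← h5]; group] at h8
      exact h8
    have h4 : ∀ q ∈ Q, k * q * k⁻¹ * q⁻¹ ∈ Z := by
      intro q hq
      obtain ⟨y', hy', y, hy, rfl⟩ := D.exists_yy hq
      have e : k * (y' * y) * k⁻¹ * (y' * y)⁻¹ =
          (k * y' * k⁻¹ * y'⁻¹) * (y' * (k * y * k⁻¹ * y⁻¹) * y'⁻¹) := by group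
      rw [e]
      exact mul_mem (h3 y' hy') (conj_mem (D.QZ (D.Y'Q hy')) (h2 y hy))
    have h5 : k ∈ Q := D.cQ k hkL fun q hq => by
      have h6 := h4 q hq
      refine comm_of_odd D.odd hkH (z := k * q * k⁻¹ * q⁻¹) (by group)
        (D.ZL2 _ h6 k hkL).symm (D.sqV _ (D.ZV h6))
    have h6 : k = 1 := D.hQ1 hkH h5
    -- `h * h = 1`, `h` odd
    apply hh1
    obtain ⟨m, hm⟩ := D.odd
    have h7 : h ^ (2 * m + 1) = 1 := by
      rw [← hm]
      exact congrArg Subtype.val (pow_card_eq_one' (x := (⟨h, hhH⟩ : H)))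
    rwa [pow_succ, pow_mul, pow_two, ← hkdef, h6, one_pow, one_mul] at h7

/-- Whatever commutes with `A0` and `H2` normalises `Y`. -/
theorem stableY {h : G} (hh : h ∈ H ⊓ L2) (hh1 : h ≠ 1) {τ : G}
    (hQ : τ ∈ Subgroup.normalizer (Q : Set G)) (hZ : τ ∈ Subgroup.normalizer (Z : Set G))
    (hτA : ∀ a ∈ A0, τ * a = a * τ) (hτh : τ * h = h * τ) : ∀ y ∈ Y, τ * y * τ⁻¹ ∈ Y := by
  have hN : (Z.subgroupOf Q).Normal := D.normalZ
  let _ : CommGroup (Q ⧸ Z.subgroupOf Q) :=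
    { QuotientGroup.Quotient.group (Z.subgroupOf Q) with
      mul_comm := by
        intro a b
        obtain ⟨x, hx, rfl⟩ := exists_mk a
        obtain ⟨y, hy, rfl⟩ := exists_mk b
        rw [← mk_mul, ← mk_mul, mk_eq_mk]
        have h1 := D.QQ (inv_mem hy) (inv_mem hx)
        rwa [show y⁻¹ * x⁻¹ * y⁻¹⁻¹ * x⁻¹⁻¹ = (x * y)⁻¹ * (y * x) by group] at h1 }
  have hhH := (Subgroup.mem_inf.mp hh).1
  have hhL := (Subgroup.mem_inf.mp hh).2
  set M := Additive (Q ⧸ Z.subgroupOf Q) with hM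
  -- operators
  let E : ∀ g : G, g ∈ Subgroup.normalizer (Q : Set G) → g ∈ Subgroup.normalizer (Z : Set G) →
      AddMonoid.End M := fun g h1 h2 => MonoidHom.toAdditive (act Q Z g h1 h2)
  let c : ∀ a : G, a ∈ Q → M := fun a ha => Additive.ofMul (UFour.mk Q Z a ha)
  have hE : ∀ g h1 h2 a ha, E g h1 h2 (c a ha) = c (g * a * g⁻¹) (conj_mem h1 ha) :=
    fun _ _ _ _ _ => rfl
  have hc0 : ∀ a ha, c a ha = 0 ↔ a ∈ Z := fun a ha => mk_eq_one
  have hcc : ∀ a ha b hb, c a ha = c b hb ↔ a⁻¹ * b ∈ Z := fun a ha b hb => mk_eq_mk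
  have hcongr : ∀ a ha b hb, a = b → c a ha = c b hb := fun a ha b hb hab => mk_congr hab
  have hcadd : ∀ a ha b hb, c (a * b) (mul_mem ha hb) = c a ha + c b hb := fun _ _ _ _ => rfl
  have hex : ∀ m : M, ∃ a ha, m = c a ha := fun m => exists_mk m
  have hEE : ∀ g g' h1 h2 h1' h2', g * g' = g' * g →
      E g h1 h2 * E g' h1' h2' = E g' h1' h2' * E g h1 h2 := by
    intro g g' h1 h2 h1' h2' hgg
    ext m
    obtain ⟨a, ha, rfl⟩ := hex m
    show c (g * (g' * a * g'⁻¹) * g⁻¹) _ = c (g' * (g * a * g⁻¹) * g'⁻¹) _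
    refine hcongr _ _ _ _ ?_
    calc g * (g' * a * g'⁻¹) * g⁻¹ = (g * g') * a * (g * g')⁻¹ := by group
      _ = (g' * g) * a * (g' * g)⁻¹ := by rw [hgg]
      _ = g' * (g * a * g⁻¹) * g'⁻¹ := by group
  let sub : ∀ X : Subgroup G, X ≤ Q → AddSubgroup M := fun X hX =>
    { carrier := {m | ∃ (x : G) (hx : x ∈ X), m = c x (hX hx)}
      zero_mem' := ⟨1, one_mem _, ((hc0 1 _).mpr (one_mem _)).symm⟩
      add_mem' := by
        rintro _ _ ⟨x, hx, rfl⟩ ⟨y, hy, rfl⟩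
        exact ⟨x * y, mul_mem hx hy, (hcadd x _ y _).symm⟩
      neg_mem' := by
        rintro _ ⟨x, hx, rfl⟩
        exact ⟨x⁻¹, inv_mem hx, rfl⟩ }
  have hsub : ∀ X hX m, m ∈ sub X hX ↔ ∃ (x : G) (hx : x ∈ X), m = c x (hX hx) :=
    fun _ _ _ => Iff.rfl
  have hstab : ∀ (X : Subgroup G) hX g h1 h2, g ∈ Subgroup.normalizer (X : Set G) →
      ∀ m ∈ sub X hX, E g h1 h2 m ∈ sub X hX := by
    rintro X hX g h1 h2 hg m ⟨x, hx, rfl⟩
    exact ⟨g * x * g⁻¹, conj_mem hg hx, rfl⟩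
  let A : Set (AddMonoid.End M) :=
    {f | ∃ (a : G) (ha : a ∈ A0), f = E a (D.HQ (D.AH ha)) (D.HZ (D.AH ha))}
  have hA' : ∀ f, f ∈ A ↔ ∃ (a : G) (ha : a ∈ A0), f = E a (D.HQ (D.AH ha)) (D.HZ (D.AH ha)) :=
    fun _ => Iff.rfl
  have hn2n2 : n2 * n2⁻¹ = 1 := by group
  have key := Algebra.stable (sub Y D.YQ) (sub (cj n2 Y) D.Y'Q)
    (by
      rintro m ⟨x, hx, rfl⟩ ⟨x', hx', h1⟩
      rw [hc0]
      rw [hcc] at h1
      have h2 : x' ∈ Y := by
        have := mul_mem hx (D.ZY h1)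
        rwa [mul_inv_cancel_left] at this
      have h3 : x' ∈ Z := by rw [← D.YY'_inf]; exact ⟨h2, hx'⟩
      have h4 := mul_mem h3 (inv_mem h1)
      rwa [show x' * (x⁻¹ * x')⁻¹ = x by group] at h4)
    (by
      intro m
      obtain ⟨a, ha, rfl⟩ := hex m
      obtain ⟨y', hy', y, hy, rfl⟩ := D.exists_yy ha
      refine ⟨c y (D.YQ hy), ⟨y, hy, rfl⟩, c y' (D.Y'Q hy'), ⟨y', hy', rfl⟩, ?_⟩
      rw [add_comm, ← hcadd])
    A
    (by
      rintro f ⟨a, ha, rfl⟩ g ⟨b, hb, rfl⟩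
      exact hEE _ _ _ _ _ _ (D.Acomm a ha b hb))
    (by
      rintro f ⟨a, ha, rfl⟩ w hw
      exact hstab _ _ _ _ _ (D.HY (D.AH ha)) w hw)
    (by
      rintro f ⟨a, ha, rfl⟩ w hw
      exact hstab _ _ _ _ _ (D.AY' ha) w hw)
    (by
      intro T hTW hTA ⟨t, ht, ht0⟩
      let T' : Subgroup G :=
        { carrier := {x | ∃ hx : x ∈ Q, c x hx ∈ T}
          one_mem' := ⟨one_mem _, by rw [(hc0 1 _).mpr (one_mem _)]; exact zero_mem _⟩
          mul_mem' := by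
            rintro a b ⟨ha, ha'⟩ ⟨hb, hb'⟩
            exact ⟨mul_mem ha hb, by rw [hcadd a ha b hb]; exact add_mem ha' hb'⟩
          inv_mem' := by
            rintro a ⟨ha, ha'⟩
            exact ⟨inv_mem ha, neg_mem ha'⟩ }
      have hT' : ∀ {x}, x ∈ T' ↔ ∃ hx : x ∈ Q, c x hx ∈ T := fun {x} => Iff.rfl
      have hZT : Z ≤ T' := fun z hz => hT'.mpr ⟨D.ZQ hz, by
        rw [(hc0 z _).mpr hz]; exact zero_mem _⟩
      have hTY : T' ≤ Y := by
        intro x hx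
        obtain ⟨hxQ, hxT⟩ := hT'.mp hx
        obtain ⟨y, hy, hxy⟩ := hTW hxT
        rw [hcc] at hxy
        have := mul_mem hy (inv_mem (D.ZY hxy))
        rwa [show y * (x⁻¹ * y)⁻¹ = x by group] at this
      have hTn : A0 ≤ Subgroup.normalizer (T' : Set G) := by
        refine le_normalizer_of fun a ha x hx => ?_
        rw [mem_cj] at hx
        obtain ⟨hxQ, hxT⟩ := hT'.mp hx
        have h1 := hTA _ ⟨a, ha, rfl⟩ _ hxT
        have h2 : a * (a⁻¹ * x * a) * a⁻¹ = x := by group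
        have h3 : x ∈ Q := by
          have := conj_mem (D.HQ (D.AH ha)) hxQ
          rwa [h2] at this
        refine hT'.mpr ⟨h3, ?_⟩
        rw [hE, hcongr _ _ x h3 h2] at h1
        exact h1
      rcases D.irrY T' hZT hTY hTn with h | h
      · exfalso
        obtain ⟨y, hy, rfl⟩ := hTW ht
        have h1 : y ∈ T' := hT'.mpr ⟨D.YQ hy, ht⟩
        rw [h] at h1
        exact ht0 ((hc0 _ _).mpr h1)
      · rintro m ⟨y, hy, rfl⟩
        rw [← h] at hy
        exact (hT'.mp hy).2)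
    (E h (D.HQ hhH) (D.HZ hhH)) (E n2 D.n2Q D.n2Z) (E τ hQ hZ)
    (by
      rintro f ⟨a, ha, rfl⟩
      exact hEE _ _ _ _ _ _ (D.h2A ha hh))
    (by
      rintro f ⟨a, ha, rfl⟩
      exact hEE _ _ _ _ _ _ (D.n2A ha))
    (by
      rintro f ⟨a, ha, rfl⟩
      exact hEE _ _ _ _ _ _ (hτA a ha).symm)
    (hEE _ _ _ _ _ _ hτh)
    (fun w hw => hstab _ _ _ _ _ (D.HY hhH) w hw)
    (fun w hw => hstab _ _ _ _ _ (D.HY' hhH) w hw)
    (by
      rintro m ⟨x, hx, rfl⟩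
      rw [mem_cj] at hx
      refine ⟨c (n2⁻¹ * x * n2) (D.YQ hx), ⟨_, hx, rfl⟩, ?_⟩
      rw [hE]
      exact hcongr _ _ _ _ (by group))
    (by
      intro m hm
      obtain ⟨a, ha, rfl⟩ := hex m
      rw [hE, hc0] at hm
      rw [hc0]
      have := conj_mem' D.n2Z hm
      rwa [show n2⁻¹ * (n2 * a * n2⁻¹) * n2 = a by group] at this)
    (by
      intro m
      obtain ⟨a, ha, rfl⟩ := hex m
      rw [hE, hE, hE, hE]
      refine hcongr _ _ _ _ ?_
      calc h * (n2 * (h * a * h⁻¹) * n2⁻¹) * h⁻¹ = (h * n2 * h) * a * (h * n2 * h)⁻¹ := by group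
        _ = n2 * a * n2⁻¹ := by rw [D.n2h hh])
    (by
      rintro m ⟨x, hx, rfl⟩
      refine ⟨c (h⁻¹ * x * h) (D.YQ (conj_mem' (D.HY hhH) hx)), ⟨_, conj_mem' (D.HY hhH) hx, rfl⟩, ?_⟩
      rw [hE]
      exact hcongr _ _ _ _ (by group))
    (by
      rintro m ⟨x, hx, rfl⟩ hm
      rw [hE, hE, hcc] at hm
      rw [hc0]
      have h2 := inv_mem hm
      have h3 := conj_mem (D.QZ (D.YQ hx)) h2
      have e : x * ((h * (h * x * h⁻¹) * h⁻¹)⁻¹ * x)⁻¹ * x⁻¹ = h * h * x * (h * h)⁻¹ * x⁻¹ := by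
        simp only [mul_inv_rev, inv_inv, mul_assoc, mul_inv_cancel_left]
      rw [e] at h3
      exact D.free hh hh1 hx h3)
  intro y hy
  obtain ⟨y2, hy2, h1⟩ := key (c y (D.YQ hy)) ⟨y, hy, rfl⟩
  rw [hE, hcc] at h1
  have h2 := mul_mem hy2 (inv_mem (D.ZY h1))
  rwa [show y2 * ((τ * y * τ⁻¹)⁻¹ * y2)⁻¹ = τ * y * τ⁻¹ by group] at h2

/-- `τ` as above normalises `Y`. -/
theorem normY_of {h : G} (hh : h ∈ H ⊓ L2) (hh1 : h ≠ 1) {τ : G}
    (hQ : τ ∈ Subgroup.normalizer (Q : Set G)) (hZ : τ ∈ Subgroup.normalizer (Z : Set G))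
    (hτA : ∀ a ∈ A0, τ * a = a * τ) (hτh : τ * h = h * τ) :
    τ ∈ Subgroup.normalizer (Y : Set G) := by
  have h1 : cj τ Y ≤ Y := by
    intro x hx
    rw [mem_cj] at hx
    have := D.stableY hh hh1 hQ hZ hτA hτh _ hx
    rwa [show τ * (τ⁻¹ * x * τ) * τ⁻¹ = x by group] at this
  rw [mem_norm_iff]
  exact Subgroup.eq_of_le_of_card_ge h1 (le_of_eq (card_cj _ _).symm)

/-- `C_Q(A0) = Z`. -/
theorem cQA {τ : G} (hτQ : τ ∈ Q) (hτA : ∀ a ∈ A0, τ * a = a * τ) : τ ∈ Z := by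
  obtain ⟨y', hy', y, hy, he⟩ := D.exists_yy hτQ
  have hcomp : ∀ a ∈ A0, a * y * a⁻¹ * y⁻¹ ∈ Z ∧ a * y' * a⁻¹ * y'⁻¹ ∈ Z := by
    intro a ha
    have h1 : a * (y' * y) * a⁻¹ = y' * y := by
      rw [← he, ← hτA a ha]; group
    have h2 : (a * y' * a⁻¹) * (a * y * a⁻¹) = y' * y := by rw [← h1]; group
    have haY := conj_mem (D.HY (D.AH ha)) hy
    have haY' := conj_mem (D.AY' ha) hy'
    have h3 : y'⁻¹ * (a * y' * a⁻¹) = y * (a * y * a⁻¹)⁻¹ := by
      calc y'⁻¹ * (a * y' * a⁻¹) = y'⁻¹ * ((a * y' * a⁻¹) * (a * y * a⁻¹)) * (a * y * a⁻¹)⁻¹ := by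
            group
        _ = y * (a * y * a⁻¹)⁻¹ := by rw [h2]; group
    have h4 : y'⁻¹ * (a * y' * a⁻¹) ∈ Z := by
      have h5 : y'⁻¹ * (a * y' * a⁻¹) ∈ cj n2 Y := mul_mem (inv_mem hy') haY'
      have h6 : y'⁻¹ * (a * y' * a⁻¹) ∈ Y := by
        rw [h3]
        exact mul_mem hy (inv_mem haY)
      rw [← D.YY'_inf]
      exact ⟨h6, h5⟩
    constructor
    · have h5 := h4
      rw [h3] at h5
      have h6 := inv_mem h5
      rwa [show (y * (a * y * a⁻¹)⁻¹)⁻¹ = a * y * a⁻¹ * y⁻¹ by group] at h6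
    · have h5 := conj_mem (D.QZ (D.Y'Q hy')) h4
      rwa [show y' * (y'⁻¹ * (a * y' * a⁻¹)) * y'⁻¹ = a * y' * a⁻¹ * y'⁻¹ by group] at h5
  have hfix : ∀ x, (∀ a ∈ A0, a * x * a⁻¹ * x⁻¹ ∈ Z) → ∀ a ∈ A0, a * x = x * a := by
    intro x hx a ha
    exact comm_of_odd D.odd (D.AH ha) (z := a * x * a⁻¹ * x⁻¹) (by group)
      (D.AZ a ha _ (hx a ha)) (D.sqV _ (D.ZV (hx a ha)))
  have hyZ : y ∈ Z := D.fixY y hy (hfix y fun a ha => (hcomp a ha).1)
  have hy'Z : y' ∈ Z := by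
    rw [mem_cj] at hy'
    have h1 : n2⁻¹ * y' * n2 ∈ Z := by
      refine D.fixY _ hy' fun a ha => ?_
      have h2 := hfix y' (fun a ha => (hcomp a ha).2) a ha
      have h3 := D.n2A ha
      have h4 : a * n2⁻¹ = n2⁻¹ * a := by
        calc a * n2⁻¹ = n2⁻¹ * (n2 * a) * n2⁻¹ := by group
          _ = n2⁻¹ * (a * n2) * n2⁻¹ := by rw [h3]
          _ = n2⁻¹ * a := by group
      calc a * (n2⁻¹ * y' * n2) = (a * n2⁻¹) * y' * n2 := by group
        _ = n2⁻¹ * (a * y') * n2 := by rw [h4]; group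
        _ = n2⁻¹ * y' * (a * n2) := by rw [h2]; group
        _ = n2⁻¹ * y' * n2 * a := by rw [h3]; group
    have h2 := conj_mem D.n2Z h1
    rwa [show n2 * (n2⁻¹ * y' * n2) * n2⁻¹ = y' by group] at h2
  rw [he]
  exact mul_mem hy'Z hyZ

/-- (Z3): a `2`-element of `C_G(z) ∩ C_G(A0 H2)` lies in `Z`. -/
theorem mem_Z {z : G} (hC : Core Q z) {h : G} (hh : h ∈ H ⊓ L2) (hh1 : h ≠ 1) {τ : G} {k : ℕ}
    (hk : τ ^ 2 ^ k = 1) (hz : τ * z = z * τ)
    (hτA : ∀ a ∈ A0, τ * a = a * τ) (hτh : τ * h = h * τ) : τ ∈ Z := by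
  have hQ : τ ∈ Subgroup.normalizer (Q : Set G) := hC.norm τ hz
  -- everything normalising `Q` normalises `Z`
  have hQZ : ∀ g : G, g ∈ Subgroup.normalizer (Q : Set G) → cj g Z ≤ Z := by
    intro g hg x hx
    rw [mem_cj] at hx
    have h1 : x ∈ Q := by
      have := conj_mem hg (D.ZQ hx)
      rwa [show g * (g⁻¹ * x * g) * g⁻¹ = x by group] at this
    refine D.centre h1 fun q hq => ?_
    have h2 := D.zu hx (D.QU (conj_mem' hg hq))
    calc x * q = g * ((g⁻¹ * x * g) * (g⁻¹ * q * g)) * g⁻¹ := by group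
      _ = g * ((g⁻¹ * q * g) * (g⁻¹ * x * g)) * g⁻¹ := by rw [h2]
      _ = q * x := by group
  have hQZ' : Subgroup.normalizer (Q : Set G) ≤ Subgroup.normalizer (Z : Set G) :=
    le_normalizer_of fun g hg => hQZ g hg
  have hZ := hQZ' hQ
  have hhL := (Subgroup.mem_inf.mp hh).2
  have hhH := (Subgroup.mem_inf.mp hh).1
  -- the conjugate by `n2`
  set σ := n2⁻¹ * τ * n2 with hσ
  have hσQ : σ ∈ Subgroup.normalizer (Q : Set G) :=
    mul_mem (mul_mem (inv_mem D.n2Q) hQ) D.n2Q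
  have hσZ := hQZ' hσQ
  have hσA : ∀ a ∈ A0, σ * a = a * σ := by
    intro a ha
    have h1 := D.n2A ha
    have h2 := hτA a ha
    have h3 : a * n2⁻¹ = n2⁻¹ * a := by
      calc a * n2⁻¹ = n2⁻¹ * (n2 * a) * n2⁻¹ := by group
        _ = n2⁻¹ * (a * n2) * n2⁻¹ := by rw [h1]
        _ = n2⁻¹ * a := by group
    calc σ * a = n2⁻¹ * τ * (n2 * a) := by rw [hσ]; group
      _ = n2⁻¹ * (τ * a) * n2 := by rw [← h1]; group
      _ = (n2⁻¹ * a) * τ * n2 := by rw [h2]; group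
      _ = a * σ := by rw [← h3, hσ]; group
  have hσh : σ * h = h * σ := by
    have h1 := D.n2h hh
    have h2 : n2 * h = h⁻¹ * n2 := by
      calc n2 * h = h⁻¹ * (h * n2 * h) := by group
        _ = h⁻¹ * n2 := by rw [h1]
    have h3 : h * n2⁻¹ = n2⁻¹ * h⁻¹ := by
      calc h * n2⁻¹ = (h * n2⁻¹ * h) * h⁻¹ := by group
        _ = (h⁻¹ * n2 * h⁻¹)⁻¹ * h⁻¹ := by group
        _ = n2⁻¹ * h⁻¹ := by rw [← h2]; group
    have h4 : τ * h⁻¹ = h⁻¹ * τ := by
      calc τ * h⁻¹ = h⁻¹ * (h * τ) * h⁻¹ := by group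
        _ = h⁻¹ * (τ * h) * h⁻¹ := by rw [hτh]
        _ = h⁻¹ * τ := by group
    calc σ * h = n2⁻¹ * τ * (n2 * h) := by rw [hσ]; group
      _ = n2⁻¹ * (τ * h⁻¹) * n2 := by rw [h2]; group
      _ = (n2⁻¹ * h⁻¹) * τ * n2 := by rw [h4]; group
      _ = h * σ := by rw [← h3, hσ]; group
  have hσk : σ ^ 2 ^ k = 1 := by
    have : σ = n2⁻¹ * τ * (n2⁻¹)⁻¹ := by rw [hσ, inv_inv]
    rw [this, conj_pow, hk]; group
  have hYY : ∀ y ∈ Y, ∀ y' ∈ Y, y * y' = y' * y := fun y hy y' hy' =>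
    D.commV y (D.YV hy) y' (D.YV hy')
  have hsq : ∀ y ∈ Y, y * y = 1 := fun y hy => D.sqV y (D.YV hy)
  have hAZ : A0 ≤ Subgroup.normalizer (Z : Set G) := D.AH.trans D.HZ
  have hAY : A0 ≤ Subgroup.normalizer (Y : Set G) := D.AH.trans D.HY
  have hY1 : ∀ y ∈ Y, τ * y * τ⁻¹ * y⁻¹ ∈ Z :=
    trivial_of_comm hYY hsq D.ZY hAZ hAY D.irrY k τ hk hτA hZ
      (D.normY_of hh hh1 hQ hZ hτA hτh)
  have hY2 : ∀ y ∈ Y, σ * y * σ⁻¹ * y⁻¹ ∈ Z :=
    trivial_of_comm hYY hsq D.ZY hAZ hAY D.irrY k σ hσk hσA hσZ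
      (D.normY_of hh hh1 hσQ hσZ hσA hσh)
  have hY3 : ∀ y ∈ cj n2 Y, τ * y * τ⁻¹ * y⁻¹ ∈ Z := by
    intro y hy
    rw [mem_cj] at hy
    have h1 := conj_mem D.n2Z (hY2 _ hy)
    rwa [show n2 * (σ * (n2⁻¹ * y * n2) * σ⁻¹ * (n2⁻¹ * y * n2)⁻¹) * n2⁻¹ =
      τ * y * τ⁻¹ * y⁻¹ by rw [hσ]; group] at h1
  -- the normal subgroup of `C_G(z)` centralising `Q/Z` and `Z`
  have hQZ2 : ∀ q ∈ Q, τ * q * τ⁻¹ * q⁻¹ ∈ Z := by
    intro q hq
    obtain ⟨y', hy', y, hy, rfl⟩ := D.exists_yy hq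
    have e : τ * (y' * y) * τ⁻¹ * (y' * y)⁻¹ =
        (τ * y' * τ⁻¹ * y'⁻¹) * (y' * (τ * y * τ⁻¹ * y⁻¹) * y'⁻¹) := by group
    rw [e]
    exact mul_mem (hY3 y' hy') (conj_mem (D.QZ (D.Y'Q hy')) (hY1 y hy))
  -- `Z = [Q, Q]`
  have hZQQ : Z ≤ ⁅Q, Q⁆ := by
    refine D.Zle.trans ?_
    rw [Subgroup.commutator_le]
    intro y hy u hu
    obtain ⟨q, hq, v, hv, rfl⟩ := D.exists_qv hu
    have e : y * (q * v) * y⁻¹ * (q * v)⁻¹ = y * q * (v * y⁻¹) * v⁻¹ * q⁻¹ := by group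
    show y * (q * v) * y⁻¹ * (q * v)⁻¹ ∈ ⁅Q, Q⁆
    rw [e, D.commV v hv y⁻¹ (inv_mem (D.YV hy)),
      show y * q * (y⁻¹ * v) * v⁻¹ * q⁻¹ = y * q * y⁻¹ * q⁻¹ by group]
    exact Subgroup.commutator_mem_commutator (D.YQ hy) hq
  have hcZ : ∀ g : G, (∀ q ∈ Q, g * q * g⁻¹ * q⁻¹ ∈ Z) → ∀ x ∈ Z, g * x = x * g := by
    intro g hg x hx
    have h1 : ⁅Q, Q⁆ ≤ Subgroup.centralizer {g} := by
      rw [Subgroup.commutator_le]
      intro a ha b hb
      rw [Subgroup.mem_centralizer_singleton_iff]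
      have hza := hg a ha
      have hzb := hg b hb
      set z1 := g * a * g⁻¹ * a⁻¹ with hz1
      set z2 := g * b * g⁻¹ * b⁻¹ with hz2
      have e1 : g * a * g⁻¹ = z1 * a := by rw [hz1]; group
      have e2 : g * b * g⁻¹ = z2 * b := by rw [hz2]; group
      have c1 : ∀ q ∈ Q, z1 * q = q * z1 := fun q hq => D.zu hza (D.QU hq)
      have c2 : ∀ q ∈ Q, z2 * q = q * z2 := fun q hq => D.zu hzb (D.QU hq)
      have e3 : g * (a * b * a⁻¹ * b⁻¹) * g⁻¹ = a * b * a⁻¹ * b⁻¹ := by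
        calc g * (a * b * a⁻¹ * b⁻¹) * g⁻¹
            = (g * a * g⁻¹) * (g * b * g⁻¹) * (g * a * g⁻¹)⁻¹ * (g * b * g⁻¹)⁻¹ := by group
          _ = z1 * a * (z2 * b) * (z1 * a)⁻¹ * (z2 * b)⁻¹ := by rw [e1, e2]
          _ = z1 * (a * z2) * b * a⁻¹ * z1⁻¹ * b⁻¹ * z2⁻¹ := by group
          _ = z1 * (z2 * a) * b * a⁻¹ * z1⁻¹ * b⁻¹ * z2⁻¹ := by rw [c2 a ha]
          _ = z1 * z2 * (a * b * a⁻¹) * z1⁻¹ * b⁻¹ * z2⁻¹ := by group
          _ = z2 * z1 * (a * b * a⁻¹) * z1⁻¹ * b⁻¹ * z2⁻¹ := by rw [c1 z2 (D.ZQ hzb)]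
          _ = z2 * (z1 * (a * b * a⁻¹)) * z1⁻¹ * b⁻¹ * z2⁻¹ := by group
          _ = z2 * ((a * b * a⁻¹) * z1) * z1⁻¹ * b⁻¹ * z2⁻¹ := by
              rw [c1 _ (mul_mem (mul_mem ha hb) (inv_mem ha))]
          _ = (z2 * (a * b * a⁻¹ * b⁻¹)) * z2⁻¹ := by group
          _ = ((a * b * a⁻¹ * b⁻¹) * z2) * z2⁻¹ := by
              rw [c2 _ (mul_mem (mul_mem (mul_mem ha hb) (inv_mem ha)) (inv_mem hb))]
          _ = a * b * a⁻¹ * b⁻¹ := by group
      show a * b * a⁻¹ * b⁻¹ * g = g * (a * b * a⁻¹ * b⁻¹)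
      calc a * b * a⁻¹ * b⁻¹ * g = (g * (a * b * a⁻¹ * b⁻¹) * g⁻¹) * g := by rw [e3]
        _ = g * (a * b * a⁻¹ * b⁻¹) := by group
    exact (Subgroup.mem_centralizer_singleton_iff.mp (h1 (hZQQ hx))).symm
  let K : Subgroup G :=
    { carrier := {x | x * z = z * x ∧ ∀ q ∈ Q, x * q * x⁻¹ * q⁻¹ ∈ Z}
      one_mem' := ⟨by group, fun q _ => by
        rw [show (1 : G) * q * 1⁻¹ * q⁻¹ = 1 by group]; exact one_mem _⟩
      mul_mem' := by
        rintro a b ⟨ha, ha2⟩ ⟨hb, hb2⟩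
        refine ⟨by rw [mul_assoc, hb, ← mul_assoc, ha, mul_assoc], fun q hq => ?_⟩
        have e : a * b * q * (a * b)⁻¹ * q⁻¹ =
          (a * (b * q * b⁻¹ * q⁻¹) * a⁻¹) * (a * q * a⁻¹ * q⁻¹) := by group
        rw [e]
        exact mul_mem (conj_mem (hQZ' (hC.norm a ha)) (hb2 q hq)) (ha2 q hq)
      inv_mem' := by
        rintro a ⟨ha, ha2⟩
        have ha' : a⁻¹ * z = z * a⁻¹ := by
          calc a⁻¹ * z = a⁻¹ * (z * a) * a⁻¹ := by group
            _ = a⁻¹ * (a * z) * a⁻¹ := by rw [ha]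
            _ = z * a⁻¹ := by group
        refine ⟨ha', fun q hq => ?_⟩
        have h1 := inv_mem (ha2 q hq)
        have h2 := conj_mem' (hQZ' (hC.norm a ha)) h1
        rwa [show a⁻¹ * (a * q * a⁻¹ * q⁻¹)⁻¹ * a = a⁻¹ * q * a⁻¹⁻¹ * q⁻¹ by group] at h2 }
  have hK : ∀ {x}, x ∈ K ↔ x * z = z * x ∧ ∀ q ∈ Q, x * q * x⁻¹ * q⁻¹ ∈ Z := fun {x} => Iff.rfl
  have hK2 : IsPGroup 2 K := by
    rintro ⟨x, hx⟩
    obtain ⟨hx0, hx2⟩ := hK.mp hx
    have hxZ := hcZ x hx2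
    have hxx : x * x ∈ Q := by
      refine hC.self _ (by rw [mul_assoc, hx0, ← mul_assoc, hx0, mul_assoc]) fun q hq => ?_
      set y := x * q * x⁻¹ * q⁻¹ with hy
      have hyY : y ∈ Z := hx2 q hq
      have e1 : x * q * x⁻¹ = y * q := by rw [hy]; group
      have e2 : x * x * q * x⁻¹ * x⁻¹ = q := by
        calc x * x * q * x⁻¹ * x⁻¹ = x * (x * q * x⁻¹) * x⁻¹ := by group
          _ = x * (y * q) * x⁻¹ := by rw [e1]
          _ = (x * y) * q * x⁻¹ := by group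
          _ = (y * x) * q * x⁻¹ := by rw [hxZ y hyY]
          _ = y * (x * q * x⁻¹) := by group
          _ = y * y * q := by rw [e1]; group
          _ = q := by rw [D.sqV y (D.ZV hyY), one_mul]
      calc x * x * q = (x * x * q * x⁻¹ * x⁻¹) * (x * x) := by group
        _ = q * (x * x) := by rw [e2]
    obtain ⟨k, hk⟩ := D.twoQ ⟨x * x, hxx⟩
    have hk' : (x * x) ^ 2 ^ k = 1 := congrArg Subtype.val hk
    refine ⟨k + 1, Subtype.ext ?_⟩
    show x ^ 2 ^ (k + 1) = 1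
    rw [pow_succ', pow_mul, pow_two]
    exact hk'
  have hKn : ∀ g, g * z = z * g → g ∈ Subgroup.normalizer (K : Set G) := by
    have hle : Subgroup.centralizer {z} ≤ Subgroup.normalizer (K : Set G) := by
      refine le_normalizer_of fun g hg x hx => ?_
      rw [Subgroup.mem_centralizer_singleton_iff] at hg
      rw [mem_cj] at hx
      obtain ⟨hx1, hx2⟩ := hK.mp hx
      refine hK.mpr ⟨?_, fun q hq => ?_⟩
      · have hg' : g⁻¹ * z = z * g⁻¹ := by
          calc g⁻¹ * z = g⁻¹ * (z * g) * g⁻¹ := by group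
            _ = g⁻¹ * (g * z) * g⁻¹ := by rw [hg]
            _ = z * g⁻¹ := by group
        calc x * z = g * (g⁻¹ * x * g) * (g⁻¹ * z) := by group
          _ = g * ((g⁻¹ * x * g) * z) * g⁻¹ := by rw [hg']; group
          _ = (g * z) * (g⁻¹ * x * g) * g⁻¹ := by rw [hx1]; group
          _ = z * x := by rw [hg]; group
      · have h1 := hx2 _ (conj_mem' (hC.norm g hg) hq)
        have h2 := conj_mem (hQZ' (hC.norm g hg)) h1
        rwa [show g * ((g⁻¹ * x * g) * (g⁻¹ * q * g) * (g⁻¹ * x * g)⁻¹ * (g⁻¹ * q * g)⁻¹) * g⁻¹ =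
          x * q * x⁻¹ * q⁻¹ by group] at h2
    intro g hg
    exact hle (Subgroup.mem_centralizer_singleton_iff.mpr hg)
  have hKQ : K ≤ Q := hC.max K hK2 (fun r hr => (hK.mp hr).1) hKn
  have hτQ : τ ∈ Q := hKQ (hK.mpr ⟨hz, hQZ2⟩)
  exact D.cQA hτQ hτA

end Torus

end Data

end Cfsg.Agent.RankTwoClose.UFour

end

end

-- merged: Cfsg.Agent.Mrg.RankTwoClose.UFour.Root
section

/-!
Type `U4(q)`: the root pair `E ≤ L` with respect to the torus `A`.
-/

set_option autoImplicit false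
set_option linter.unusedSectionVars false

universe u

namespace Cfsg.Agent.RankTwoClose.UFour

open Cfsg.Agent.Omega.RootLemma

variable {G : Type u} [Group G]

namespace Data

variable {S V U Z Y L1 L2 Q H A0 : Subgroup G} {n1 n2 : G}

section Root

variable (D : Data S V U Z Y L1 L2 Q H A0 n1 n2)
include D

theorem n1V : n1 ∈ Subgroup.normalizer (V : Set G) := D.P1.norm D.P1.nL

theorem A'H : A0 ⊔ (H ⊓ L2) ≤ H := sup_le D.AH inf_le_left

theorem A'Z {a z : G} (ha : a ∈ A0 ⊔ (H ⊓ L2)) (hz : z ∈ Z) : a * z = z * a := by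
  have h1 : A0 ⊔ (H ⊓ L2) ≤ Subgroup.centralizer {z} := by
    refine sup_le (fun a ha => ?_) (fun a ha => ?_)
    · exact Subgroup.mem_centralizer_singleton_iff.mpr (D.AZ a ha z hz)
    · exact Subgroup.mem_centralizer_singleton_iff.mpr (D.ZL2 z hz a (Subgroup.mem_inf.mp ha).2).symm
  exact Subgroup.mem_centralizer_singleton_iff.mp (h1 ha)

theorem H2n : H ≤ Subgroup.normalizer ((H ⊓ L2 : Subgroup G) : Set G) := fun _ hx =>
  norm_inf (Subgroup.le_normalizer hx) (D.HL2 hx)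

theorem n2H2 : n2 ∈ Subgroup.normalizer ((H ⊓ L2 : Subgroup G) : Set G) :=
  norm_inf (mem_norm_iff.mpr D.n2H) (Subgroup.le_normalizer D.P2.nL)

theorem n2A0 : n2 ∈ Subgroup.normalizer (A0 : Set G) := by
  rw [Subgroup.mem_normalizer_iff]
  intro a
  constructor
  · intro ha
    rw [← D.n2A ha]; simpa using ha
  · intro ha
    have h1 := D.n2A ha
    have h2 : a = n2 * a * n2⁻¹ := by
      calc a = n2⁻¹ * ((n2 * a * n2⁻¹) * n2) := by group
        _ = n2⁻¹ * (n2 * (n2 * a * n2⁻¹)) := by rw [h1]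
        _ = n2 * a * n2⁻¹ := by group
    rw [h2]; exact ha

theorem n2A' : cj n2 (A0 ⊔ (H ⊓ L2)) = A0 ⊔ (H ⊓ L2) := by
  rw [cj_sup, mem_norm_iff.mp D.n2A0, mem_norm_iff.mp D.n2H2]

/-- `H` normalises `A0 H2`. -/
theorem HA' : H ≤ Subgroup.normalizer ((A0 ⊔ (H ⊓ L2) : Subgroup G) : Set G) := fun _ hx =>
  norm_sup (D.HA hx) (D.H2n hx)

theorem AH1 : cj n1 (A0 ⊔ (H ⊓ L2)) ≤ H := by
  have := cj_mono (g := n1) D.A'H
  rwa [D.n1H] at this

theorem AE_comm {a e : G} (ha : a ∈ cj n1 (A0 ⊔ (H ⊓ L2))) (he : e ∈ cj n1 Z) : a * e = e * a := by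
  rw [mem_cj] at ha he
  have h1 := D.A'Z ha he
  calc a * e = n1 * ((n1⁻¹ * a * n1) * (n1⁻¹ * e * n1)) * n1⁻¹ := by group
    _ = n1 * ((n1⁻¹ * e * n1) * (n1⁻¹ * a * n1)) * n1⁻¹ := by rw [h1]
    _ = e * a := by group

theorem A0A : A0 ≤ cj n1 (A0 ⊔ (H ⊓ L2)) := by
  rw [cj_sup, D.n1A]
  exact le_sup_left

theorem EU : cj n1 Z ≤ U := D.EV.trans D.VU

theorem EY_sup : Y ⊔ cj n1 Z = V := le_antisymm (sup_le D.YV D.EV) D.Vdec

theorem QE_sup : Q ⊔ cj n1 Z = U := by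
  refine le_antisymm (sup_le D.QU D.EU) ?_
  rw [← D.QV_sup]
  refine sup_le le_sup_left ?_
  rw [← D.EY_sup]
  exact sup_le (D.YQ.trans le_sup_left) le_sup_right

theorem EnQ : ¬ cj n1 Z ≤ Q := fun h => by
  have h1 : cj n1 Z ≤ Y := by rw [← D.VQ_inf]; exact le_inf D.EV h
  have h2 := D.Edis
  rw [inf_eq_right.mpr h1] at h2
  exact D.E_ne h2

/-- `E ∩ Q = 1`. -/
theorem EQ {e : G} (he : e ∈ cj n1 Z) (hq : e ∈ Q) : e = 1 := by
  have h1 : e ∈ Y ⊓ cj n1 Z := ⟨by rw [← D.VQ_inf]; exact ⟨D.EV he, hq⟩, he⟩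
  rw [D.Edis] at h1
  exact Subgroup.mem_bot.mp h1

/-- `A` centralises `L2/Q`. -/
theorem AcL2Q {a x : G} (ha : a ∈ cj n1 (A0 ⊔ (H ⊓ L2))) (hx : x ∈ L2) :
    a * x * a⁻¹ * x⁻¹ ∈ Q := by
  have haH := D.AH1 ha
  refine D.P2.comm_of (D.HL2 haH) (D.HU haH) ?_ (fun u hu => ?_) x hx
  · rw [← cj_mul, show a * n2 = n2 * (n2⁻¹ * a * n2) by group, cj_mul]
    have h1 : n2⁻¹ * a * n2 ∈ H := conj_mem' (mem_norm_iff.mpr D.n2H) haH
    rw [mem_norm_iff.mp (D.HU h1)]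
  · rw [← D.QE_sup, sup_comm] at hu
    obtain ⟨e, he, q, hq, rfl⟩ := mem_sup_norm (D.EU.trans (D.UL2.trans D.P2.norm)) hu
    have h1 := D.AE_comm ha he
    have e1 : a * (e * q) * a⁻¹ * (e * q)⁻¹ =
        (a * e) * a⁻¹ * e⁻¹ * (e * ((a * q * a⁻¹) * q⁻¹) * e⁻¹) := by group
    rw [e1, h1, show e * a * a⁻¹ * e⁻¹ = 1 by group, one_mul]
    exact conj_mem (D.P2.norm (D.UL2 (D.EU he))) (mul_mem (conj_mem (D.HQ haH) hq) (inv_mem hq))

/-- `n2` centralises `A`. -/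
theorem n2Ac {a : G} (ha : a ∈ cj n1 (A0 ⊔ (H ⊓ L2))) : a * n2 = n2 * a := by
  have haH := D.AH1 ha
  have h1 := D.AcL2Q ha D.P2.nL
  have h2 : a * n2 * a⁻¹ * n2⁻¹ ∈ H := by
    rw [show a * n2 * a⁻¹ * n2⁻¹ = a * (n2 * a⁻¹ * n2⁻¹) by group]
    exact mul_mem haH (conj_mem (mem_norm_iff.mpr D.n2H) (inv_mem haH))
  have h3 := D.hQ1 h2 h1
  calc a * n2 = (a * n2 * a⁻¹ * n2⁻¹) * (n2 * a) := by group
    _ = n2 * a := by rw [h3, one_mul]

theorem cj_n1_Z' : cj n1 (cj n1 Z) = Z := by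
  rw [← cj_mul, mem_norm_iff.mp (D.HZ D.n1n1)]

variable [Finite G]

/-- `C_Q(A) = 1`. -/
theorem cQA' {q : G} (hq : q ∈ Q) (hA : ∀ a ∈ cj n1 (A0 ⊔ (H ⊓ L2)), q * a = a * q) : q = 1 := by
  have h1 : q ∈ Z := D.cQA hq fun a ha => hA a (D.A0A ha)
  -- `e = n1 q n1⁻¹` commutes with `H2`
  have he : n1 * q * n1⁻¹ ∈ cj n1 Z := conj_mem_cj h1
  have h2 : ∀ h ∈ H ⊓ L2, h * (n1 * q * n1⁻¹) = (n1 * q * n1⁻¹) * h := by
    intro h hh
    -- `n1⁻¹ h n1 = n1 (n1 n1)⁻¹ h (n1 n1) n1⁻¹`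
    have h3 : (n1 * n1)⁻¹ * h * (n1 * n1) ∈ H ⊓ L2 := conj_mem' (D.H2n D.n1n1) hh
    have h4 : n1⁻¹ * h * n1 ∈ cj n1 (A0 ⊔ (H ⊓ L2)) := by
      have := conj_mem_cj (g := n1) (Subgroup.mem_sup_right (S := A0) h3)
      rwa [show n1 * ((n1 * n1)⁻¹ * h * (n1 * n1)) * n1⁻¹ = n1⁻¹ * h * n1 by group] at this
    have h5 := hA _ h4
    calc h * (n1 * q * n1⁻¹) = n1 * ((n1⁻¹ * h * n1) * q) * n1⁻¹ := by group
      _ = n1 * (q * (n1⁻¹ * h * n1)) * n1⁻¹ := by rw [h5]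
      _ = (n1 * q * n1⁻¹) * h := by group
  have h3 : n1 * q * n1⁻¹ ∈ Q := D.fix2 _ (D.EU he) fun h hh => by
    rw [h2 h hh, show n1 * q * n1⁻¹ * h * h⁻¹ * (n1 * q * n1⁻¹)⁻¹ = 1 by group]
    exact one_mem _
  have h4 := D.EQ he h3
  calc q = n1⁻¹ * (n1 * q * n1⁻¹) * n1 := by group
    _ = 1 := by rw [h4]; group

/-- The centralizer of `A`, in `L2`. -/
theorem L_comm {x a : G} (hx : x ∈ cj n1 Z ⊔ cj n2 (cj n1 Z))
    (ha : a ∈ cj n1 (A0 ⊔ (H ⊓ L2))) : x * a = a * x := by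
  have h1 : cj n1 Z ⊔ cj n2 (cj n1 Z) ≤ Subgroup.centralizer {a} := by
    refine sup_le (fun e he => ?_) (fun e he => ?_)
    · exact Subgroup.mem_centralizer_singleton_iff.mpr (D.AE_comm ha he).symm
    · rw [mem_cj] at he
      have h1 := D.AE_comm ha he
      have h2 := D.n2Ac ha
      rw [Subgroup.mem_centralizer_singleton_iff]
      have h3 : n2⁻¹ * a = a * n2⁻¹ := by
        calc n2⁻¹ * a = n2⁻¹ * (a * n2) * n2⁻¹ := by group
          _ = n2⁻¹ * (n2 * a) * n2⁻¹ := by rw [h2]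
          _ = a * n2⁻¹ := by group
      calc e * a = n2 * (n2⁻¹ * e * n2) * (n2⁻¹ * a) := by group
        _ = n2 * ((n2⁻¹ * e * n2) * a) * n2⁻¹ := by rw [h3]; group
        _ = (n2 * a) * (n2⁻¹ * e * n2) * n2⁻¹ := by rw [← h1]; group
        _ = a * e := by rw [← h2]; group
  exact Subgroup.mem_centralizer_singleton_iff.mp (h1 hx)

theorem LL2 : cj n1 Z ⊔ cj n2 (cj n1 Z) ≤ L2 := by
  refine sup_le (D.EU.trans D.UL2) ?_
  have := cj_mono (g := n2) (D.EU.trans D.UL2)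
  rwa [cj_eq_of_mem D.P2.nL] at this

theorem L2_eq : (cj n1 Z ⊔ cj n2 (cj n1 Z)) ⊔ Q = L2 := by
  refine le_antisymm (sup_le D.LL2 (D.QU.trans D.UL2)) ?_
  refine D.P2.gen.trans (sup_le ?_ ?_)
  · rw [← D.QE_sup]
    exact sup_le le_sup_right (le_sup_left.trans le_sup_left)
  · rw [← D.QE_sup, cj_sup, mem_norm_iff.mp D.n2Q]
    exact sup_le le_sup_right (le_sup_right.trans le_sup_left)

/-- `n2 ∈ L`. -/
theorem n2L : n2 ∈ cj n1 Z ⊔ cj n2 (cj n1 Z) := by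
  have h1 : n2 ∈ (cj n1 Z ⊔ cj n2 (cj n1 Z)) ⊔ Q := D.L2_eq ▸ D.P2.nL
  obtain ⟨l, hl, q, hq, he⟩ := mem_sup_norm (D.LL2.trans D.P2.norm) h1
  have h2 : q = 1 := by
    refine D.cQA' hq fun a ha => ?_
    have h3 := D.L_comm hl ha
    have h4 := D.n2Ac ha
    have h5 : q = l⁻¹ * n2 := by rw [he]; group
    have h6 : l⁻¹ * a = a * l⁻¹ := by
      calc l⁻¹ * a = l⁻¹ * (a * l) * l⁻¹ := by group
        _ = l⁻¹ * (l * a) * l⁻¹ := by rw [h3]
        _ = a * l⁻¹ := by group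
    calc q * a = l⁻¹ * (n2 * a) := by rw [h5]; group
      _ = (l⁻¹ * a) * n2 := by rw [← h4]; group
      _ = a * q := by rw [h6, h5]; group
  rw [h2, mul_one] at he
  have hl' : l = n2 := he.symm
  clear he
  rw [hl'] at hl
  exact hl

/-- 2-elements of `C_G(z) ∩ C_G(A0 H2)` for `z ∈ Z#` lie in `Z`. -/
theorem two_mem {z x : G} (hC : Core Q z) {P : Subgroup G} (hP : IsPGroup 2 P) (hx : x ∈ P)
    (hxz : x * z = z * x) (hxA : ∀ a ∈ A0 ⊔ (H ⊓ L2), x * a = a * x) : x ∈ Z := by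
  obtain ⟨k, hk⟩ := hP ⟨x, hx⟩
  have hk' : x ^ 2 ^ k = 1 := congrArg Subtype.val hk
  obtain ⟨h, hh, hh1⟩ := D.H2ne
  exact D.mem_Z hC hh hh1 hk' hxz (fun a ha => hxA a (Subgroup.mem_sup_left ha))
    (hxA h (Subgroup.mem_sup_right hh))

/-- `Z` is a Sylow `2`-subgroup of `C_G(A0 H2)`. -/
theorem syl (hC : ∀ z ∈ Z, z ≠ 1 → Core Q z) {P : Subgroup G} (hP : IsPGroup 2 P)
    (hPA : ∀ x ∈ P, ∀ a ∈ A0 ⊔ (H ⊓ L2), x * a = a * x) (hZP : Z ≤ P) : P ≤ Z := by
  have : Fact (Nat.Prime 2) := ⟨Nat.prime_two⟩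
  obtain ⟨z, hz, -, -, hz1, -, -⟩ := D.Zbig
  have : Nontrivial P := ⟨⟨⟨z, hZP hz⟩, 1, fun h => hz1 (congrArg Subtype.val h)⟩⟩
  have hc := hP.center_nontrivial
  obtain ⟨⟨c, hcP⟩, hcc, hc1⟩ := Subgroup.exists_ne_one_of_nontrivial (Subgroup.center P)
  have hcc' : ∀ x ∈ P, x * c = c * x := fun x hx =>
    congrArg Subtype.val (Subgroup.mem_center_iff.mp hcc ⟨x, hx⟩)
  have hc1' : c ≠ 1 := fun h => hc1 (Subtype.ext h)
  have hcZ : c ∈ Z := D.two_mem (hC z hz hz1) hP hcP (hcc' z (hZP hz)).symm (hPA c hcP)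
  intro x hx
  exact D.two_mem (hC c hcZ hc1') hP hx (hcc' x hx) (hPA x hx)

theorem normZ_of_core {z c : G} (hC : Core Q z) (hc : c * z = z * c) : ∀ v ∈ Z, c * v * c⁻¹ ∈ Z := by
  intro v hv
  have hg := hC.norm c hc
  refine D.centre (conj_mem hg (D.ZQ hv)) fun q hq => ?_
  have h2 := D.zu hv (D.QU (conj_mem' hg hq))
  calc c * v * c⁻¹ * q = c * (v * (c⁻¹ * q * c)) * c⁻¹ := by group
    _ = c * ((c⁻¹ * q * c) * v) * c⁻¹ := by rw [h2]
    _ = q * (c * v * c⁻¹) := by group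

theorem sq_E {e : G} (he : e ∈ cj n1 Z) : e * e = 1 := D.sqV e (D.EV he)

/-- The root pair. -/
theorem root (hC : ∀ z ∈ Z, z ≠ 1 → Core Q z) :
    Root (cj n1 (A0 ⊔ (H ⊓ L2))) (cj n1 Z) (cj n1 Z ⊔ cj n2 (cj n1 Z)) := by
  have htr : ∀ {c : G}, (∀ a ∈ cj n1 (A0 ⊔ (H ⊓ L2)), c * a = a * c) →
      ∀ a ∈ A0 ⊔ (H ⊓ L2), (n1⁻¹ * c * n1) * a = a * (n1⁻¹ * c * n1) := by
    intro c hc a ha
    have h1 := hc _ (conj_mem_cj (g := n1) ha)
    calc (n1⁻¹ * c * n1) * a = n1⁻¹ * (c * (n1 * a * n1⁻¹)) * n1 := by group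
      _ = n1⁻¹ * ((n1 * a * n1⁻¹) * c) * n1 := by rw [h1]
      _ = a * (n1⁻¹ * c * n1) := by group
  have hE2 : IsPGroup 2 (cj n1 Z) := isPGroup_cj (D.twoU.to_le D.ZleU)
  have hsyl : ∀ P : Subgroup G, IsPGroup 2 P →
      (∀ x ∈ P, ∀ a ∈ cj n1 (A0 ⊔ (H ⊓ L2)), x * a = a * x) → cj n1 Z ≤ P → P ≤ cj n1 Z := by
    intro P hP hPA hEP
    have h1 : cj n1⁻¹ P ≤ Z := by
      refine D.syl hC (isPGroup_cj hP) (fun x hx => ?_) ?_
      · rw [mem_cj, inv_inv] at hx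
        have h2 := htr (hPA _ hx)
        rwa [show n1⁻¹ * (n1 * x * n1⁻¹) * n1 = x by group] at h2
      · have := cj_mono (g := n1⁻¹) hEP
        rwa [cj_inv_cj] at this
    have := cj_mono (g := n1) h1
    rwa [cj_cj_inv] at this
  refine ⟨le_sup_left, fun k hk a ha => D.L_comm hk ha, hE2, hsyl, ?_, ?_, ?_, ?_, ?_⟩
  · obtain ⟨a, ha, b, hb, ha1, hb1, hab⟩ := D.Zbig
    refine ⟨n1 * a * n1⁻¹, conj_mem_cj ha, n1 * b * n1⁻¹, conj_mem_cj hb,
      D.sq_E (conj_mem_cj ha), D.sq_E (conj_mem_cj hb), ?_, ?_, ?_⟩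
    · intro h; exact ha1 (by
        calc a = n1⁻¹ * (n1 * a * n1⁻¹) * n1 := by group
          _ = 1 := by rw [h]; group)
    · intro h; exact hb1 (by
        calc b = n1⁻¹ * (n1 * b * n1⁻¹) * n1 := by group
          _ = 1 := by rw [h]; group)
    · intro h; exact hab (by
        calc a = n1⁻¹ * (n1 * a * n1⁻¹) * n1 := by group
          _ = n1⁻¹ * (n1 * b * n1⁻¹) * n1 := by rw [h]
          _ = b := by group)
  · intro u hu _ v hv
    exact D.commV u (D.EV hu) v (D.EV hv)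
  · intro u hu _ hu1 c hcu hcA v hv
    rw [mem_cj] at hu hv ⊢
    have hz1 : n1⁻¹ * u * n1 ≠ 1 := fun h => hu1 (by
      calc u = n1 * (n1⁻¹ * u * n1) * n1⁻¹ := by group
        _ = 1 := by rw [h]; group)
    have h1 : (n1⁻¹ * c * n1) * (n1⁻¹ * u * n1) = (n1⁻¹ * u * n1) * (n1⁻¹ * c * n1) := by
      calc (n1⁻¹ * c * n1) * (n1⁻¹ * u * n1) = n1⁻¹ * (c * u) * n1 := by group
        _ = n1⁻¹ * (u * c) * n1 := by rw [hcu]
        _ = (n1⁻¹ * u * n1) * (n1⁻¹ * c * n1) := by group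
    have h2 := D.normZ_of_core (hC _ hu hz1) h1 _ hv
    rwa [show n1⁻¹ * c * n1 * (n1⁻¹ * v * n1) * (n1⁻¹ * c * n1)⁻¹ =
      n1⁻¹ * (c * v * c⁻¹) * n1 by group] at h2
  · -- some element moves `E`
    by_contra hcon
    push Not at hcon
    have h1 : cj n2 (cj n1 Z) ≤ Subgroup.normalizer ((cj n1 Z : Subgroup G) : Set G) := by
      refine le_normalizer_of fun x hx y hy => ?_
      rw [mem_cj] at hy
      have := hcon x (Subgroup.mem_sup_right hx) _ hy
      rwa [show x * (x⁻¹ * y * x) * x⁻¹ = y by group] at this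
    have h2 : IsPGroup 2 (cj n2 (cj n1 Z) ⊔ cj n1 Z : Subgroup G) :=
      IsPGroup.to_sup_of_normal_right' (isPGroup_cj hE2) hE2 h1
    have h3 := hsyl _ h2 (fun x hx a ha => D.L_comm (by rwa [sup_comm] at hx) ha) le_sup_right
    have h4 : cj n2 (cj n1 Z) ≤ cj n1 Z := le_sup_left.trans h3
    have h5 : cj n2 (cj n1 Z) ≤ Q := by
      refine le_trans (le_inf (h4.trans D.EU) (cj_mono D.EU)) D.P2.inter
    refine D.EnQ ?_
    have h6 := cj_mono (g := n2⁻¹) h5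
    rwa [cj_inv_cj, mem_norm_iff.mp (inv_mem D.n2Q)] at h6
  · -- generation
    refine sup_le ?_ ?_
    · intro e he
      exact Subgroup.subset_closure ⟨1, one_mem _, e, he, by group⟩
    · intro e he
      rw [mem_cj] at he
      exact Subgroup.subset_closure ⟨n2, D.n2L, _, he, by group⟩

end Root

end Data

end Cfsg.Agent.RankTwoClose.UFour

end

-- merged: Cfsg.Agent.Mrg.RankTwoClose.UFour.ModelS
section

/-!
# Semilinear elements

An element `g` of the ambient group which normalises `V`, `L`, `U` and the diagonal torus `H1` acts on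
`L/V = SL(2, K)` through an automorphism of the field `K`.
-/

set_option autoImplicit false
set_option linter.unusedSectionVars false
set_option linter.unusedSimpArgs false

namespace Cfsg.Agent.RankTwoClose.UFour

open MField

namespace Model

variable {G : Type*} [Group G] {K : Type*} [Field K] [CharP K 2] {s : K ≃+* K}
  {V L : Subgroup G} (m : Model K s V L)

/-- The elements which normalise everything. -/
def NS (H1 : Subgroup G) : Subgroup G :=
  Subgroup.normalizer (V : Set G) ⊓ Subgroup.normalizer (L : Set G) ⊓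
    Subgroup.normalizer (m.U : Set G) ⊓ Subgroup.normalizer (H1 : Set G)

variable {m} {H1 : Subgroup G}

theorem NS.nV {g : G} (hg : g ∈ m.NS H1) : g ∈ Subgroup.normalizer (V : Set G) := hg.1.1.1
theorem NS.nL {g : G} (hg : g ∈ m.NS H1) : g ∈ Subgroup.normalizer (L : Set G) := hg.1.1.2
theorem NS.nU {g : G} (hg : g ∈ m.NS H1) : g ∈ Subgroup.normalizer (m.U : Set G) := hg.1.2
theorem NS.nH {g : G} (hg : g ∈ m.NS H1) : g ∈ Subgroup.normalizer (H1 : Set G) := hg.2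

/-- Conjugation by an element normalising `L`. -/
def gc {g : G} (hg : g ∈ Subgroup.normalizer (L : Set G)) : L →* L where
  toFun x := ⟨g * x * g⁻¹, conj_mem hg x.2⟩
  map_one' := by
    apply Subtype.ext
    show g * ((1 : L) : G) * g⁻¹ = ((1 : L) : G)
    rw [Subgroup.coe_one, mul_one, mul_inv_cancel]
  map_mul' x y := by
    apply Subtype.ext
    show g * ((x * y : L) : G) * g⁻¹ = g * x * g⁻¹ * (g * y * g⁻¹)
    rw [Subgroup.coe_mul]
    group

theorem coe_gc {g : G} (hg : g ∈ Subgroup.normalizer (L : Set G)) (x : L) :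
    (gc hg x : G) = g * x * g⁻¹ := rfl

/-! ### Coordinates in `U` -/

theorem IsU.P_mul {x y : L} (hx : m.IsU x) (hy : m.IsU y) :
    m.P (x * y) 0 1 = m.P x 0 1 + m.P y 0 1 := by
  rw [Model.P_mul, hx.1, hy.2.2, one_mul, mul_one, add_comm]

theorem IsU.mul {x y : L} (hx : m.IsU x) (hy : m.IsU y) : m.IsU (x * y) := by
  refine ⟨?_, ?_, ?_⟩
  · rw [Model.P_mul, hx.1, hy.1, hy.2.1]; ring
  · rw [Model.P_mul, hx.2.1, hx.2.2, hy.2.1]; ring
  · rw [Model.P_mul, hx.2.1, hx.2.2, hy.2.2]; ring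

theorem IsU.inv {x : L} (hx : m.IsU x) : m.IsU x⁻¹ ∧ m.P x⁻¹ 0 1 = m.P x 0 1 := by
  obtain ⟨g1, g2, g3, g4⟩ := m.P_inv x
  exact ⟨⟨by rw [g1, hx.2.2], by rw [g3, hx.2.1], by rw [g4, hx.1]⟩, g2⟩

theorem IsU.mem_V {x : L} (hx : m.IsU x) : (x : G) ∈ V ↔ m.P x 0 1 = 0 := by
  rw [m.mem_V_iff]
  exact ⟨fun h => h.2.1, fun h => ⟨hx.1, h, hx.2.1, hx.2.2⟩⟩

theorem isU_of_mem_V {x : L} (hx : (x : G) ∈ V) : m.IsU x ∧ m.P x 0 1 = 0 := by
  rw [m.mem_V_iff] at hx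
  exact ⟨⟨hx.1, hx.2.2.1, hx.2.2.2⟩, hx.2.1⟩

theorem IsU.mul_inv_mem {x y : L} (hx : m.IsU x) (hy : m.IsU y) :
    ((x * y⁻¹ : L) : G) ∈ V ↔ m.P x 0 1 = m.P y 0 1 := by
  obtain ⟨h1, h2⟩ := hy.inv
  rw [(hx.mul h1).mem_V, hx.P_mul h1, h2]
  exact ⟨eq_of_add_eq_zero, fun h => by rw [h, add_self]⟩

theorem IsU.gc {g : G} (hg : g ∈ m.NS H1) {x : L} (hx : m.IsU x) : m.IsU (gc (NS.nL hg) x) :=
  m.mem_U.1 (conj_mem (NS.nU hg) (m.mem_U.2 hx))

theorem IsU.gc_P {g : G} (hg : g ∈ m.NS H1) {x y : L} (hx : m.IsU x) (hy : m.IsU y)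
    (h : m.P x 0 1 = m.P y 0 1) : m.P (Model.gc (NS.nL hg) x) 0 1 = m.P (Model.gc (NS.nL hg) y) 0 1 := by
  rw [← (hx.gc hg).mul_inv_mem (hy.gc hg), ← map_inv, ← map_mul]
  exact conj_mem (NS.nV hg) ((hx.mul_inv_mem hy).2 h)

theorem IsT.conj_U {t : K} {x u : L} (hx : m.IsT t x) (hu : m.IsU u) :
    m.IsU (x * u * x⁻¹) ∧ m.P (x * u * x⁻¹) 0 1 = t * t * m.P u 0 1 := by
  obtain ⟨g1, g2, g3, g4⟩ := m.P_inv x
  obtain ⟨h0, t1, t2, t3, t4⟩ := hx
  obtain ⟨u1, u2, u3⟩ := hu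
  refine ⟨⟨?_, ?_, ?_⟩, ?_⟩
  · simp only [Model.P_mul, g1, g2, g3, g4, t1, t2, t3, t4, u1, u2, u3]
    field_simp
    ring
  · simp only [Model.P_mul, g1, g2, g3, g4, t1, t2, t3, t4, u1, u2, u3]
    ring
  · simp only [Model.P_mul, g1, g2, g3, g4, t1, t2, t3, t4, u1, u2, u3]
    field_simp
    ring
  · simp only [Model.P_mul, g1, g2, g3, g4, t1, t2, t3, t4, u1, u2, u3]
    ring

/-! ### The automorphism of the field -/

section Aut

variable [Finite K] {ζ : Kˣ} {h : L} (S : Std m H1 ζ h)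

/-- `θ` is the automorphism of the field belonging to `g`. -/
structure IsAut (m : Model K s V L) (H1 : Subgroup G) (g : G) (θ : K ≃+* K) (c : K) : Prop where
  ne : c ≠ 0
  torus : ∀ (x : L), (x : G) ∈ H1 → ∀ t, m.IsT t x →
    ∀ y : L, (y : G) = g * x * g⁻¹ → m.IsT (θ t) y
  unip : ∀ x : L, m.IsU x → ∀ y : L, (y : G) = g * x * g⁻¹ →
    m.IsU y ∧ m.P y 0 1 = c * θ (m.P x 0 1)

include S in
theorem exists_isAut {g : G} (hg : g ∈ m.NS H1) : ∃ θ c, IsAut m H1 g θ c := by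
  classical
  choose u hu hu1 using fun w : K => m.exists_U w
  let φ : K → K := fun w => m.P (gc (NS.nL hg) (u w)) 0 1
  have hφ : ∀ x : L, m.IsU x → m.P (gc (NS.nL hg) x) 0 1 = φ (m.P x 0 1) := fun x hx =>
    hx.gc_P hg (hu _) (hu1 _).symm
  have hadd : ∀ a b, φ (a + b) = φ a + φ b := by
    intro a b
    have h1 : m.P (u a * u b) 0 1 = a + b := by rw [(hu a).P_mul (hu b), hu1, hu1]
    rw [← h1, ← hφ _ ((hu a).mul (hu b)), map_mul, ((hu a).gc hg).P_mul ((hu b).gc hg)]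
  have hker : ∀ a, φ a = 0 → a = 0 := by
    intro a ha
    have h1 : ((gc (NS.nL hg) (u a) : L) : G) ∈ V := ((hu a).gc hg).mem_V.2 ha
    have h2 : ((u a : L) : G) ∈ V := by
      have h3 := conj_mem' (NS.nV hg) h1
      rw [coe_gc] at h3
      have h4 : g⁻¹ * (g * (u a : L) * g⁻¹) * g = (u a : L) := by group
      rwa [h4] at h3
    rw [← hu1 a]
    exact (hu a).mem_V.1 h2
  have hzero : φ 0 = 0 := by
    have := hadd 0 0
    rw [add_zero] at this
    exact left_eq_add.mp this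
  -- the torus
  have htor : ∀ x : L, (x : G) ∈ H1 → ∀ t, m.IsT t x → ∃ t', m.IsT t' (gc (NS.nL hg) x) ∧
      ∀ w, φ (t * t * w) = t' * t' * φ w := by
    intro x hx t ht
    have h1 : ((gc (NS.nL hg) x : L) : G) ∈ H1 := conj_mem (NS.nH hg) hx
    obtain ⟨y, hy, t', ht'⟩ := S.isT _ h1
    have hy' : y = gc (NS.nL hg) x := Subtype.ext hy
    rw [hy'] at ht'
    refine ⟨t', ht', fun w => ?_⟩
    obtain ⟨e1, e2⟩ := ht.conj_U (hu w)
    obtain ⟨e3, e4⟩ := ht'.conj_U ((hu w).gc hg)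
    rw [hu1] at e2
    rw [← e2, ← hφ _ e1, map_mul, map_mul, map_inv, e4]
  set c := φ 1 with hc
  have hc0 : c ≠ 0 := fun h0 => one_ne_zero (hker 1 h0)
  have hmul : ∀ a b, φ (a * b) * c⁻¹ = (φ a * c⁻¹) * (φ b * c⁻¹) := by
    intro a b
    by_cases ha : a = 0
    · rw [ha, zero_mul, hzero]; ring
    · obtain ⟨t, ht⟩ := exists_sqrt a
      have ht0 : t ≠ 0 := by
        intro h0
        rw [h0, zero_mul] at ht
        exact ha ht.symm
      obtain ⟨x, hx, hxT⟩ := S.onto t ht0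
      obtain ⟨t', ht', hw⟩ := htor x hx t hxT
      have h1 : φ a = t' * t' * c := by
        have := hw 1
        rwa [mul_one, ht] at this
      rw [← ht, hw b, ht, h1]
      field_simp
  let θ0 : K →+* K :=
    { toFun := fun a => φ a * c⁻¹
      map_one' := mul_inv_cancel₀ hc0
      map_mul' := hmul
      map_zero' := by rw [hzero, zero_mul]
      map_add' := fun a b => by rw [hadd, add_mul] }
  have hbij : Function.Bijective θ0 :=
    ⟨θ0.injective, Finite.surjective_of_injective θ0.injective⟩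
  let θ : K ≃+* K := RingEquiv.ofBijective θ0 hbij
  have hθ : ∀ a, φ a = c * θ a := by
    intro a
    show φ a = c * (φ a * c⁻¹)
    field_simp
  refine ⟨θ, c, hc0, ?_, ?_⟩
  · intro x hx t ht y hy
    obtain ⟨t', ht', hw⟩ := htor x hx t ht
    have hy' : y = gc (NS.nL hg) x := Subtype.ext hy
    rw [hy']
    have h1 := hw 1
    rw [mul_one, hθ, ← hc, map_mul, mul_comm] at h1
    have h2 := mul_right_cancel₀ hc0 h1
    rw [mul_self_inj h2]
    exact ht'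
  · intro x hx y hy
    have hy' : y = gc (NS.nL hg) x := Subtype.ext hy
    rw [hy']
    exact ⟨hx.gc hg, by rw [hφ x hx, hθ]⟩

theorem IsAut.unique {g : G} (hg : g ∈ m.NS H1) {θ θ' : K ≃+* K} {c c' : K}
    (h : IsAut m H1 g θ c) (h' : IsAut m H1 g θ' c') : θ = θ' ∧ c = c' := by
  have hc : c = c' := by
    obtain ⟨u, hu, hu1⟩ := m.exists_U 1
    have h1 := (h.unip u hu (gc (NS.nL hg) u) rfl).2
    have h2 := (h'.unip u hu (gc (NS.nL hg) u) rfl).2
    rw [hu1, map_one, mul_one] at h1 h2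
    rw [← h1, h2]
  refine ⟨?_, hc⟩
  ext w
  obtain ⟨u, hu, hu1⟩ := m.exists_U w
  have h1 := (h.unip u hu (gc (NS.nL hg) u) rfl).2
  have h2 := (h'.unip u hu (gc (NS.nL hg) u) rfl).2
  rw [hu1] at h1 h2
  rw [h1, hc] at h2
  exact mul_left_cancel₀ (hc ▸ h.ne) h2

theorem IsAut.mul {g g' : G} (hg' : g' ∈ m.NS H1) {θ θ' : K ≃+* K} {c c' : K}
    (h : IsAut m H1 g θ c) (h' : IsAut m H1 g' θ' c') :
    IsAut m H1 (g * g') (θ'.trans θ) (c * θ c') := by
  refine ⟨mul_ne_zero h.ne ?_, ?_, ?_⟩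
  · exact fun h0 => h'.ne (θ.injective (by rw [h0, map_zero]))
  · intro x hx t ht y hy
    have h1 := h'.torus x hx t ht (gc (NS.nL hg') x) rfl
    refine h.torus (gc (NS.nL hg') x) (conj_mem (NS.nH hg') hx) _ h1 y ?_
    rw [hy, coe_gc]
    group
  · intro x hx y hy
    obtain ⟨h1, h2⟩ := h'.unip x hx (gc (NS.nL hg') x) rfl
    obtain ⟨h3, h4⟩ := h.unip _ h1 y (by rw [hy, coe_gc]; group)
    refine ⟨h3, ?_⟩
    rw [h4, h2, map_mul, mul_assoc]
    rfl

theorem isAut_one : IsAut m H1 1 (RingEquiv.refl K) 1 := by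
  refine ⟨one_ne_zero, ?_, ?_⟩
  · intro x _ t ht y hy
    have : y = x := Subtype.ext (by rw [hy]; group)
    rw [this]
    exact ht
  · intro x hx y hy
    have : y = x := Subtype.ext (by rw [hy]; group)
    rw [this]
    exact ⟨hx, by rw [one_mul]; rfl⟩

/-- **The homomorphism into the automorphism group of the field.** -/
noncomputable def aut (S : Std m H1 ζ h) : m.NS H1 →* (K ≃+* K) where
  toFun g := Classical.choose (exists_isAut S g.2)
  map_one' := by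
    obtain ⟨c, hc⟩ := Classical.choose_spec (exists_isAut S (1 : m.NS H1).2)
    exact (hc.unique (1 : m.NS H1).2 isAut_one).1
  map_mul' g g' := by
    obtain ⟨c, hc⟩ := Classical.choose_spec (exists_isAut S (g * g').2)
    obtain ⟨c1, hc1⟩ := Classical.choose_spec (exists_isAut S g.2)
    obtain ⟨c2, hc2⟩ := Classical.choose_spec (exists_isAut S g'.2)
    exact (hc.unique (g * g').2 (hc1.mul g'.2 hc2)).1

theorem aut_spec (S : Std m H1 ζ h) (g : m.NS H1) : ∃ c, IsAut m H1 (g : G) (aut S g) c :=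
  Classical.choose_spec (exists_isAut S g.2)

theorem aut_eq (S : Std m H1 ζ h) (g : m.NS H1) {θ : K ≃+* K} {c : K}
    (hθ : IsAut m H1 (g : G) θ c) : aut S g = θ := by
  obtain ⟨c', hc'⟩ := aut_spec S g
  exact (hc'.unique g.2 hθ).1

/-- An element of trivial field action centralises the torus. -/
theorem centralizes_of_aut_one (S : Std m H1 ζ h) (hodd : Odd (Nat.card H1)) {g : m.NS H1}
    (h1 : aut S g = 1) : ∀ x ∈ H1, (g : G) * x = x * g := by
  intro x hx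
  obtain ⟨y, rfl, t, ht⟩ := S.isT x hx
  obtain ⟨c, hc⟩ := aut_spec S g
  have h2 := hc.torus y hx t ht (gc (NS.nL g.2) y) rfl
  rw [h1] at h2
  have h3 : m.IsT t (gc (NS.nL g.2) y) := h2
  have h4 : m.IsU (gc (NS.nL g.2) y * y⁻¹) ∧ m.P (gc (NS.nL g.2) y * y⁻¹) 0 1 = 0 := by
    have := h3.mul ht.inv
    rw [mul_inv_cancel₀ ht.1] at this
    obtain ⟨-, p1, p2, p3, p4⟩ := this
    rw [inv_one] at p4
    exact ⟨⟨p1, p3, p4⟩, p2⟩
  have h5 : ((gc (NS.nL g.2) y * y⁻¹ : L) : G) ∈ H1 := by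
    rw [Subgroup.coe_mul, Subgroup.coe_inv]
    exact mul_mem (conj_mem (NS.nH g.2) hx) (inv_mem hx)
  have h6 := h4.1.eq_one_of_odd h5 hodd
  have h7 : (g : G) * y * (g : G)⁻¹ = y := congrArg Subtype.val (mul_inv_eq_one.mp h6)
  calc (g : G) * y = (g : G) * y * (g : G)⁻¹ * g := by group
    _ = y * g := by rw [h7]

end Aut

end Model

end Cfsg.Agent.RankTwoClose.UFour

end

-- merged: Cfsg.Agent.Mrg.RankTwoClose.UFour.Close
section

section


/-!
Type `U4(q)`: the frame, (PATH), the braid relation of length `4`, the split BN-pair.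
-/

set_option autoImplicit false
set_option linter.unusedSectionVars false

universe u

namespace Cfsg.Agent.RankTwoClose.UFour

open Cfsg.Agent.Omega.RootLemma

variable {G : Type u} [Group G]

namespace Data

variable {S V U Z Y L1 L2 Q H A0 : Subgroup G} {n1 n2 : G}

section Close

variable (D : Data S V U Z Y L1 L2 Q H A0 n1 n2)
include D

/-- Elements of the Borel subgroup. -/
theorem exists_uh {b : G} (hb : b ∈ U ⊔ H) : ∃ u ∈ U, ∃ h ∈ H, b = u * h := by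
  rw [sup_comm] at hb
  obtain ⟨h, hh, u, hu, rfl⟩ := mem_sup_norm D.HU hb
  exact ⟨h * u * h⁻¹, conj_mem (D.HU hh) hu, h, hh, by group⟩

theorem normB_U {b : G} (hb : b ∈ U ⊔ H) : b ∈ Subgroup.normalizer (U : Set G) := by
  have : U ⊔ H ≤ Subgroup.normalizer (U : Set G) := sup_le Subgroup.le_normalizer D.HU
  exact this hb

/-- `2`-elements of `B` lie in `U`. -/
theorem two_mem_U {P : Subgroup G} (hP : IsPGroup 2 P) {x : G} (hx : x ∈ P) (hB : x ∈ U ⊔ H) :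
    x ∈ U := by
  obtain ⟨u, hu, h, hh, rfl⟩ := D.exists_uh hB
  -- `h` is a `2`-element modulo `U`
  obtain ⟨k, hk⟩ := hP ⟨u * h, hx⟩
  have hk' : (u * h) ^ 2 ^ k = 1 := congrArg Subtype.val hk
  have key : ∀ n : ℕ, ∃ v ∈ U, (u * h) ^ n = v * h ^ n := by
    intro n
    induction n with
    | zero => exact ⟨1, one_mem _, by simp⟩
    | succ n ih =>
      obtain ⟨v, hv, e⟩ := ih
      refine ⟨v * (h ^ n * u * (h ^ n)⁻¹), mul_mem hv (conj_mem (D.HU (pow_mem hh n)) hu), ?_⟩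
      rw [pow_succ, e, pow_succ]; group
  obtain ⟨v, hv, e⟩ := key (2 ^ k)
  rw [hk'] at e
  have h1 : h ^ 2 ^ k ∈ U := by
    have : h ^ 2 ^ k = v⁻¹ := (inv_eq_of_mul_eq_one_right e.symm).symm
    rw [this]; exact inv_mem hv
  have h2 : h ^ 2 ^ k = 1 := eq_one_of_odd_two D.odd D.twoU (pow_mem hh _) h1
  have h3 : h = 1 := by
    obtain ⟨m, hm⟩ := D.odd
    have h4 : orderOf h ∣ 2 ^ k := orderOf_dvd_of_pow_eq_one h2
    have h5 : orderOf h ∣ Nat.card H := Subgroup.orderOf_dvd_natCard H hh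
    have h6 : Nat.Coprime (2 ^ k) (Nat.card H) :=
      Nat.Coprime.pow_left k (Nat.coprime_two_left.mpr D.odd)
    exact orderOf_eq_one_iff.mp (Nat.eq_one_of_dvd_coprimes h6 h4 h5)
  rw [h3, mul_one]
  exact hu

theorem inter_B {n : G} {X : Subgroup G} (hX : U ⊓ cj n U ≤ X) {x : G}
    (hx : x ∈ U) (hx' : n⁻¹ * x * n ∈ U ⊔ H) : x ∈ X := by
  refine hX ⟨hx, mem_cj.mpr ?_⟩
  exact D.two_mem_U (P := cj n⁻¹ U) (isPGroup_cj D.twoU)
    (by rw [mem_cj, inv_inv]; rwa [show n * (n⁻¹ * x * n) * n⁻¹ = x by group]) hx'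

theorem n1_not : n1 ∉ U ⊔ H := fun h => D.cj_n1_U_ne (mem_norm_iff.mp (D.normB_U h))
theorem n2_not : n2 ∉ U ⊔ H := fun h => D.cj_n2_U_ne (mem_norm_iff.mp (D.normB_U h))

/-- Bruhat decomposition of a rank one parabolic. -/
theorem memP_of {L X : Subgroup G} {n : G} (hR : RankOne L U X n) (hHL : H ≤ Subgroup.normalizer (L : Set G))
    (hb : ∀ g ∈ L, cj g U = U → g ∈ U ⊔ H) (x : G) :
    x ∈ L ⊔ H ↔ x ∈ U ⊔ H ∨ ∃ b ∈ U ⊔ H, ∃ c ∈ U ⊔ H, x = b * n * c := by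
  constructor
  · intro hx
    rw [sup_comm] at hx
    obtain ⟨h, hh, g, hg, rfl⟩ := mem_sup_norm hHL hx
    rcases hR.trans g hg with h1 | ⟨u, hu, h1⟩
    · exact Or.inl (mul_mem (Subgroup.mem_sup_right hh) (hb g hg h1))
    · right
      have h2 : cj ((u * n)⁻¹ * g) U = U := by rw [cj_mul, h1, cj_inv_cj]
      have h3 := hb _ (mul_mem (inv_mem (mul_mem (hR.UL hu) hR.nL)) hg) h2
      exact ⟨h * u, mul_mem (Subgroup.mem_sup_right hh) (Subgroup.mem_sup_left hu), _, h3, by group⟩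
  · have hB : U ⊔ H ≤ L ⊔ H := sup_le_sup_right hR.UL H
    rintro (h | ⟨b, hb, c, hc, rfl⟩)
    · exact hB h
    · exact mul_mem (mul_mem (hB hb) (Subgroup.mem_sup_left hR.nL)) (hB hc)

theorem two_of {L X : Subgroup G} {n : G} (hR : RankOne L U X n)
    (hnH : cj n H = H) (hmem : ∀ x, x ∈ L ⊔ H ↔ x ∈ U ⊔ H ∨ ∃ b ∈ U ⊔ H, ∃ c ∈ U ⊔ H, x = b * n * c)
    (hfix : ∀ u ∈ U, (∀ h ∈ H, h * u * h⁻¹ * u⁻¹ ∈ X) → u ∈ X) {g : G} (hg : g ∈ L ⊔ H)
    (hH : ∀ h ∈ H, g⁻¹ * h * g ∈ U ⊔ H) : g ∈ U ⊔ H ∨ n⁻¹ * g ∈ U ⊔ H := by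
  rcases (hmem g).mp hg with h | ⟨b, hb, c, hc, rfl⟩
  · exact Or.inl h
  · right
    obtain ⟨u, hu, t, ht, rfl⟩ := D.exists_uh hb
    have h1 : u ∈ X := by
      refine hfix u hu fun h hh => ?_
      -- `h u h⁻¹ u⁻¹ ∈ U ∩ n B n⁻¹`
      have hUh : h * u * h⁻¹ * u⁻¹ ∈ U := mul_mem (conj_mem (D.HU hh) hu) (inv_mem hu)
      refine D.inter_B hR.inter hUh ?_
      -- `(u t n c)⁻¹ h⁻¹ (u t n c) ∈ B`
      have h2 := hH h⁻¹ (inv_mem hh)
      have h3 : n⁻¹ * t⁻¹ * (u⁻¹ * h⁻¹ * u) * t * n ∈ U ⊔ H := by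
        have := mul_mem (mul_mem hc h2) (inv_mem hc)
        rwa [show c * ((u * t * n * c)⁻¹ * h⁻¹ * (u * t * n * c)) * c⁻¹ =
          n⁻¹ * t⁻¹ * (u⁻¹ * h⁻¹ * u) * t * n by group] at this
      have ht' : n⁻¹ * t * n ∈ H := conj_mem' (mem_norm_iff.mpr hnH) ht
      have hh' : n⁻¹ * h * n ∈ H := conj_mem' (mem_norm_iff.mpr hnH) hh
      have h4 := mul_mem (mul_mem (Subgroup.mem_sup_right (S := U) ht') h3)
        (inv_mem (Subgroup.mem_sup_right (S := U) ht'))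
      rw [show n⁻¹ * t * n * (n⁻¹ * t⁻¹ * (u⁻¹ * h⁻¹ * u) * t * n) * (n⁻¹ * t * n)⁻¹ =
        n⁻¹ * (u⁻¹ * h⁻¹ * u) * n by group] at h4
      -- so `n⁻¹ u n` version
      have h5 := mul_mem (Subgroup.mem_sup_right (S := U) hh') (h4)
      rw [show n⁻¹ * h * n * (n⁻¹ * (u⁻¹ * h⁻¹ * u) * n) = n⁻¹ * (h * u⁻¹ * h⁻¹ * u) * n by group] at h5
      -- `h u⁻¹ h⁻¹ u ∈ U ∩ nBn⁻¹ ≤ X`; conjugate
      have h6 : h * u⁻¹ * h⁻¹ * u ∈ X := by
        refine D.inter_B hR.inter ?_ h5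
        exact mul_mem (conj_mem (D.HU hh) (inv_mem hu)) hu
      have h7 : h * u * h⁻¹ * u⁻¹ ∈ X := by
        have h8 := conj_mem (hR.norm (hR.UL hu)) (inv_mem h6)
        have h9 := conj_mem (hR.norm (hR.UL hUh)) h8
        have e : u * (h * u⁻¹ * h⁻¹ * u)⁻¹ * u⁻¹ = h * u * h⁻¹ * u⁻¹ := by group
        rwa [e] at h8
      have h8 : n⁻¹ * (h * u * h⁻¹ * u⁻¹) * n ∈ U :=
        hR.QU (conj_mem' (hR.norm hR.nL) h7)
      exact Subgroup.mem_sup_left h8
    have h2 : n⁻¹ * u * n ∈ U := hR.QU (conj_mem' (hR.norm hR.nL) h1)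
    have h3 : n⁻¹ * t * n ∈ H := conj_mem' (mem_norm_iff.mpr hnH) ht
    have h4 := mul_mem (mul_mem (Subgroup.mem_sup_left (T := H) h2) (Subgroup.mem_sup_right h3)) hc
    rwa [show n⁻¹ * u * n * (n⁻¹ * t * n) * c = n⁻¹ * (u * t * n * c) by group] at h4

theorem fix1 : ∀ u ∈ U, (∀ h ∈ H, h * u * h⁻¹ * u⁻¹ ∈ V) → u ∈ V := D.fixU

theorem fix2' : ∀ u ∈ U, (∀ h ∈ H, h * u * h⁻¹ * u⁻¹ ∈ Q) → u ∈ Q := fun u hu h =>
  D.fix2 u hu fun x hx => h x (Subgroup.mem_inf.mp hx).1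

/-- The frame of type `U4`. -/
def frame : Frame G where
  B := U ⊔ H
  H := H
  P i := if i then L2 ⊔ H else L1 ⊔ H
  n i := if i then n2 else n1
  memP i x := by
    cases i
    · exact D.memP_of D.P1 D.HL1 D.borel1 x
    · exact D.memP_of D.P2 D.HL2 D.borel2 x
  inter := by
    have hB1 : U ⊔ H ≤ L1 ⊔ H := sup_le_sup_right D.UL1 H
    have hB2 : U ⊔ H ≤ L2 ⊔ H := sup_le_sup_right D.UL2 H
    refine le_antisymm ?_ (le_inf hB1 hB2)
    rintro x ⟨hx1, hx2⟩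
    have h1 : x ∈ L1 ⊔ H := hx1
    have h2 : x ∈ L2 ⊔ H := hx2
    rcases (D.memP_of D.P1 D.HL1 D.borel1 x).mp h1 with h | ⟨b, hb, c, hc, rfl⟩
    · exact h
    · exfalso
      -- `n1 ∈ L2 H` normalises `Q`
      have h3 : n1 ∈ L2 ⊔ H := by
        have := mul_mem (mul_mem (inv_mem (hB2 hb)) h2) (inv_mem (hB2 hc))
        rwa [show b⁻¹ * (b * n1 * c) * c⁻¹ = n1 by group] at this
      have h4 : n1 ∈ Subgroup.normalizer (Q : Set G) :=
        (sup_le D.P2.norm D.HQ) h3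
      have h5 : cj n1 Y = Y := by
        rw [← D.VQ_inf, cj_inf, mem_norm_iff.mp D.n1V, mem_norm_iff.mp h4]
      have h6 : cj n1 Z ≤ Y := by
        have := cj_mono (g := n1) D.ZY
        rwa [h5] at this
      have h7 := D.Edis
      rw [inf_eq_right.mpr h6] at h7
      exact D.E_ne h7
  H_le := le_sup_right
  n_norm i := by
    cases i
    · exact mem_norm_iff.mpr D.n1H
    · exact mem_norm_iff.mpr D.n2H
  n_not i := by
    cases i
    · exact D.n1_not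
    · exact D.n2_not
  two i g hg h := by
    cases i
    · exact D.two_of D.P1 D.n1H (D.memP_of D.P1 D.HL1 D.borel1) D.fix1 hg h
    · exact D.two_of D.P2 D.n2H (D.memP_of D.P2 D.HL2 D.borel2) D.fix2' hg h

@[simp] theorem frame_B : D.frame.B = U ⊔ H := rfl
@[simp] theorem frame_H : D.frame.H = H := rfl
@[simp] theorem frame_P0 : D.frame.P false = L1 ⊔ H := rfl
@[simp] theorem frame_P1 : D.frame.P true = L2 ⊔ H := rfl
@[simp] theorem frame_n0 : D.frame.n false = n1 := rfl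
@[simp] theorem frame_n1 : D.frame.n true = n2 := rfl

/-- `W = Y ∩ Y^n1`. -/
theorem cj_n1_W : cj n1 (Y ⊓ cj n1 Y) = Y ⊓ cj n1 Y := by
  rw [cj_inf, ← cj_mul, mem_norm_iff.mp (D.HY D.n1n1), inf_comm]

theorem HW : H ≤ Subgroup.normalizer ((Y ⊓ cj n1 Y : Subgroup G) : Set G) := fun h hh =>
  norm_inf (D.HY hh) (norm_cj (D.HY (conj_mem' (mem_norm_iff.mpr D.n1H) hh)))

theorem cj_n2_W : cj n2 (cj n2 (Y ⊓ cj n1 Y)) = Y ⊓ cj n1 Y := by
  rw [← cj_mul, mem_norm_iff.mp (D.HW D.n2n2)]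

theorem WV_sup [Finite G] : cj n2 (Y ⊓ cj n1 Y) ⊔ V = U := by
  refine le_antisymm (sup_le (le_trans (cj_mono inf_le_left) D.Y'leU) D.VU) ?_
  rw [← D.VY'_sup]
  refine sup_le le_sup_right ?_
  have h1 := cj_mono (g := n2) D.Ydec
  rw [cj_sup, D.cj_Z_of_L2 D.P2.nL] at h1
  exact h1.trans (sup_le (D.ZV.trans le_sup_right) le_sup_left)

variable [Finite G]

theorem WB : Y ⊓ cj n1 Y ≤ U ⊔ H := inf_le_left.trans (D.YleU.trans le_sup_left)
theorem W'B : cj n2 (Y ⊓ cj n1 Y) ≤ U ⊔ H :=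
  le_trans (cj_mono inf_le_left) (D.Y'leU.trans le_sup_left)
theorem EB : cj n1 Z ≤ U ⊔ H := D.EU.trans le_sup_left
theorem ZB : Z ≤ U ⊔ H := D.ZleU.trans le_sup_left

/-- (PATH). -/
theorem pathTo {k : ℕ} (hk : k < 4) : D.frame.PathTo k := by
  refine D.frame.pathTo_of_root
    (fun i => if i then (cj n1 Z : Set G) else (cj n2 (Y ⊓ cj n1 Y) : Set G)) ?_ ?_
  · intro i b hb
    obtain ⟨u, hu, h, hh, rfl⟩ := D.exists_uh hb
    cases i
    · rw [← D.WV_sup] at hu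
      obtain ⟨x, hx, v, hv, rfl⟩ := mem_sup_norm
        ((le_trans (cj_mono inf_le_left) D.Y'leU).trans D.UV) hu
      refine ⟨x, hx, v * h, mul_mem (Subgroup.mem_sup_left (D.VU hv)) (Subgroup.mem_sup_right hh),
        by group, ?_⟩
      show n1⁻¹ * (v * h) * n1 ∈ U ⊔ H
      rw [show n1⁻¹ * (v * h) * n1 = (n1⁻¹ * v * n1) * (n1⁻¹ * h * n1) by group]
      exact mul_mem (Subgroup.mem_sup_left (D.VU (conj_mem' D.n1V hv)))
        (Subgroup.mem_sup_right (conj_mem' (mem_norm_iff.mpr D.n1H) hh))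
    · rw [← D.QE_sup, sup_comm] at hu
      obtain ⟨x, hx, v, hv, rfl⟩ := mem_sup_norm (D.EU.trans (D.UL2.trans D.P2.norm)) hu
      refine ⟨x, hx, v * h, mul_mem (Subgroup.mem_sup_left (D.QU hv)) (Subgroup.mem_sup_right hh),
        by group, ?_⟩
      show n2⁻¹ * (v * h) * n2 ∈ U ⊔ H
      rw [show n2⁻¹ * (v * h) * n2 = (n2⁻¹ * v * n2) * (n2⁻¹ * h * n2) by group]
      exact mul_mem (Subgroup.mem_sup_left (D.QU (conj_mem' D.n2Q hv)))
        (Subgroup.mem_sup_right (conj_mem' (mem_norm_iff.mpr D.n2H) hh))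
  · -- the words
    have key : ∀ (w : G) (X : Subgroup G), cj w X ≤ U ⊔ H → ∀ x ∈ X, w * x * w⁻¹ ∈ U ⊔ H :=
      fun w X h x hx => h (conj_mem_cj hx)
    intro i x hx
    show alt D.frame.n i k * x * (alt D.frame.n i k)⁻¹ ∈ U ⊔ H
    interval_cases k
    · cases i
      · exact key 1 (cj n2 (Y ⊓ cj n1 Y)) (by rw [cj_one]; exact D.W'B) x hx
      · exact key 1 (cj n1 Z) (by rw [cj_one]; exact D.EB) x hx
    · cases i
      · refine key (n1 * 1) (cj n1 Z) ?_ x hx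
        rw [mul_one, D.cj_n1_Z']; exact D.ZB
      · refine key (n2 * 1) (cj n2 (Y ⊓ cj n1 Y)) ?_ x hx
        rw [mul_one, D.cj_n2_W]; exact D.WB
    · cases i
      · refine key (n1 * (n2 * 1)) (cj n2 (Y ⊓ cj n1 Y)) ?_ x hx
        rw [mul_one, cj_mul, D.cj_n2_W, D.cj_n1_W]; exact D.WB
      · refine key (n2 * (n1 * 1)) (cj n1 Z) ?_ x hx
        rw [mul_one, cj_mul, D.cj_n1_Z', D.cj_Z_of_L2 D.P2.nL]; exact D.ZB
    · cases i
      · refine key (n1 * (n2 * (n1 * 1))) (cj n1 Z) ?_ x hx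
        rw [mul_one, cj_mul, cj_mul, D.cj_n1_Z', D.cj_Z_of_L2 D.P2.nL]; exact D.EB
      · refine key (n2 * (n1 * (n2 * 1))) (cj n2 (Y ⊓ cj n1 Y)) ?_ x hx
        rw [mul_one, cj_mul, cj_mul, D.cj_n2_W, D.cj_n1_W]; exact D.W'B

/-- The braid relation of length `4`. -/
theorem braid (hB : Bender.{u}) (hC : ∀ z ∈ Z, z ≠ 1 → Core Q z) : D.frame.Braid 4 := by
  refine D.frame.braid_of_root (m := 3) (i := true) hB (D.root hC) D.n2L ?_ ?_ (by decide) ?_
  · show n2⁻¹ * n2 ∈ D.frame.H₁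
    rw [inv_mul_cancel]; exact one_mem _
  · show _ ≤ L2 ⊔ H
    exact D.LL2.trans le_sup_left
  · intro a ha
    show (n1 * (n2 * (n1 * 1)))⁻¹ * a * (n1 * (n2 * (n1 * 1))) ∈ _
    have h1 : cj (n1 * (n2 * (n1 * 1))) (cj n1 (A0 ⊔ (H ⊓ L2))) = cj n1 (A0 ⊔ (H ⊓ L2)) := by
      rw [mul_one, cj_mul, cj_mul, ← cj_mul n1 n1, mem_norm_iff.mp (D.HA' D.n1n1), D.n2A']
    rw [← mem_cj, h1]
    exact ha

/-- **Type `U4(q)`: the closing theorem.**  `⟨L1, L2⟩H` has a split BN-pair of rank two. -/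
theorem exists_split (hB : Bender.{u}) (hC : ∀ z ∈ Z, z ≠ 1 → Core Q z) {X : Subgroup G}
    (hX : (L1 ⊔ H) ⊔ (L2 ⊔ H) = X) :
    ∃ P : Cfsg.BNPair X, P.rank = 2 ∧ P.IsSplit ∧ P.B = (U ⊔ H).subgroupOf X ∧
      (∀ x : X, x ∈ P.N ↔ (x : G) ∈ D.frame.N) := by
  refine D.frame.exists_split_sup (D.braid hB hC) (by norm_num) (fun k hk => D.pathTo hk) ?_
    U le_sup_left (fun b hb u hu => conj_mem (D.normB_U hb) hu) ?_ ?_ hX
  · have key : ∀ n : G, cj n U ≠ U → ∃ b ∈ U ⊔ H, n * b * n⁻¹ ∉ U ⊔ H := by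
      intro n hn
      by_contra hcon
      push Not at hcon
      apply hn
      refine Subgroup.eq_of_le_of_card_ge (fun x hx => ?_) (le_of_eq (card_cj _ _).symm)
      refine D.two_mem_U (isPGroup_cj D.twoU) hx ?_
      rw [mem_cj] at hx
      have := hcon _ (Subgroup.mem_sup_left hx)
      rwa [show n * (n⁻¹ * x * n) * n⁻¹ = x by group] at this
    intro i
    cases i
    · exact key n1 D.cj_n1_U_ne
    · exact key n2 D.cj_n2_U_ne
  · have : Fact (Nat.Prime 2) := ⟨Nat.prime_two⟩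
    exact D.twoU.isNilpotent
  · intro b hb
    obtain ⟨u, hu, h, hh, rfl⟩ := D.exists_uh hb
    refine ⟨u, hu, ?_⟩
    rw [inv_mul_cancel_left]
    exact Subgroup.le_normalizer hh

/-- The hypothesis on `C_G(z)` from one involution of `Z(S)`. -/
theorem core_forall {z0 : G} (hz0 : z0 ∈ Z) (hz1 : z0 ≠ 1)
    (hS : ∀ P : Subgroup G, IsPGroup 2 P → S ≤ P → P ≤ S) (hSz : ∀ s ∈ S, s * z0 = z0 * s)
    (hR : ∃ R : Subgroup G, IsPGroup 2 R ∧ Core R z0) : ∀ z ∈ Z, z ≠ 1 → Core Q z :=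
  fun _ hz hzz => D.core_all hz0 hz1 (D.core_of hz0 hS hSz hR) hz hzz

end Close

end Data

end Cfsg.Agent.RankTwoClose.UFour

end

section


/-!
# Field involutions and abelian subgroups of `U`

(1) an element of order two of the automorphism group of a finite field is unique;
(2) an involution which acts as `s` on the torus centralises `Z` and `Z^{n1}`;
(3) Hilbert 90: the involutions of `U g` modulo `V`;
(4) an abelian subgroup of `U` which is not contained in `V` has order at most `q^3`.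
-/

set_option autoImplicit false
set_option linter.unusedSectionVars false
set_option linter.unusedSimpArgs false

namespace Cfsg.Agent.RankTwoClose.UFour

namespace MField

variable {K : Type*} [Field K] [CharP K 2] {s : K ≃+* K}

/-- The automorphism group of a finite field has only one involution. -/
theorem eq_of_involutions [Finite K] (hs : ∀ k, s (s k) = k) (hne : s ≠ RingEquiv.refl K)
    {θ : K ≃+* K} (hθ : ∀ k, θ (θ k) = k) (hθne : θ ≠ RingEquiv.refl K) : θ = s := by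
  classical
  let _ : Algebra (ZMod 2) K := ZMod.algebra K 2
  have hcom : ∀ (f : K ≃+* K) (r : ZMod 2), f (algebraMap (ZMod 2) K r) = algebraMap (ZMod 2) K r := by
    intro f r
    have h1 : (f : K →+* K).comp (algebraMap (ZMod 2) K) = algebraMap (ZMod 2) K :=
      Subsingleton.elim _ _
    exact RingHom.congr_fun h1 r
  let S : K ≃ₐ[ZMod 2] K := AlgEquiv.ofRingEquiv (f := s) (hcom s)
  let T : K ≃ₐ[ZMod 2] K := AlgEquiv.ofRingEquiv (f := θ) (hcom θ)
  have : Fintype (K ≃ₐ[ZMod 2] K) := Fintype.ofFinite _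
  have : IsCyclic (K ≃ₐ[ZMod 2] K) := inferInstanceAs (IsCyclic Gal(K/ZMod 2))
  have hcard := IsCyclic.card_pow_eq_one_le (α := K ≃ₐ[ZMod 2] K) (n := 2) (by norm_num)
  by_contra hne'
  have hS : S ^ 2 = 1 := by
    rw [pow_two]
    ext k
    exact hs k
  have hT : T ^ 2 = 1 := by
    rw [pow_two]
    ext k
    exact hθ k
  have hS1 : S ≠ 1 := by
    intro h
    apply hne
    ext k
    exact AlgEquiv.congr_fun h k
  have hT1 : T ≠ 1 := by
    intro h
    apply hθne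
    ext k
    exact AlgEquiv.congr_fun h k
  have hTS : T ≠ S := by
    intro h
    apply hne'
    ext k
    exact AlgEquiv.congr_fun h k
  have hsub : ({1, S, T} : Finset (K ≃ₐ[ZMod 2] K)) ⊆
      Finset.univ.filter (fun a => a ^ 2 = 1) := by
    intro x hx
    rw [Finset.mem_filter]
    refine ⟨Finset.mem_univ _, ?_⟩
    simp only [Finset.mem_insert, Finset.mem_singleton] at hx
    rcases hx with rfl | rfl | rfl
    · exact one_pow _
    · exact hS
    · exact hT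
  have h3 : ({1, S, T} : Finset (K ≃ₐ[ZMod 2] K)).card = 3 := by
    rw [Finset.card_insert_of_notMem, Finset.card_insert_of_notMem, Finset.card_singleton]
    · rw [Finset.mem_singleton]
      exact fun h => hTS h.symm
    · rw [Finset.mem_insert, Finset.mem_singleton]
      rintro (h | h)
      · exact hS1 h.symm
      · exact hT1 h.symm
  have h4 := Finset.card_le_card hsub
  rw [h3] at h4
  omega

/-- The fixed elements. -/
def fix (s : K ≃+* K) : AddSubgroup K where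
  carrier := {k | s k = k}
  add_mem' {a b} ha hb := by
    show s (a + b) = a + b
    rw [map_add, show s a = a from ha, show s b = b from hb]
  zero_mem' := map_zero s
  neg_mem' {a} ha := by
    show s (-a) = -a
    rw [map_neg, show s a = a from ha]

theorem mem_fix {k : K} : k ∈ fix s ↔ s k = k := Iff.rfl

theorem card_fix [Finite K] (hs : ∀ k, s (s k) = k) (hne : s ≠ RingEquiv.refl K) :
    Nat.card (fix s) * Nat.card (fix s) = Nat.card K := by
  let T : K →+ K :=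
    { toFun := fun k => k + s k
      map_zero' := by rw [map_zero, add_zero]
      map_add' := fun a b => by rw [map_add]; ring }
  have hk : T.ker = fix s := by
    ext k
    rw [AddMonoidHom.mem_ker, mem_fix]
    constructor
    · intro h
      exact (eq_of_add_eq_zero (show k + s k = 0 from h)).symm
    · intro h
      show k + s k = 0
      rw [h, add_self]
  have hr : T.range = fix s := by
    ext k
    rw [AddMonoidHom.mem_range, mem_fix]
    constructor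
    · rintro ⟨y, rfl⟩
      show s (y + s y) = y + s y
      rw [map_add, hs, add_comm]
    · intro h
      obtain ⟨y, hy⟩ := exists_trace hs hne h
      exact ⟨y, hy⟩
  have h1 := AddSubgroup.card_eq_card_quotient_mul_card_addSubgroup T.ker
  have h2 : Nat.card (K ⧸ T.ker) = Nat.card T.range :=
    Nat.card_congr (QuotientAddGroup.quotientKerEquivRange T).toEquiv
  rw [h2, hk, hr] at h1
  exact h1.symm

end MField

open MField

namespace Model

variable {G : Type*} [Group G] {K : Type*} [Field K] [CharP K 2] {s : K ≃+* K}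
  {V L : Subgroup G} {m : Model K s V L} {H1 : Subgroup G}

section Inv

variable [Finite K] {ζ : Kˣ} {h : L} (S : Std m H1 ζ h)
  (hs : ∀ k, s (s k) = k) (hne : s ≠ RingEquiv.refl K)

include hs hne in
/-- Either trivial or `s`, for a field automorphism of order at most two. -/
theorem aut_eq_one_or {g : m.NS H1} (h2 : aut S g * aut S g = 1) :
    aut S g = 1 ∨ aut S g = s := by
  by_cases h1 : aut S g = 1
  · exact Or.inl h1
  · right
    refine eq_of_involutions hs hne ?_ h1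
    intro k
    exact RingEquiv.congr_fun h2 k

/-! ### The action on `V` -/

/-- Conjugation on `V`. -/
def cv {g : G} (hg : g ∈ m.NS H1) (v : V) : V := ⟨g * v * g⁻¹, conj_mem (NS.nV hg) v.2⟩

theorem coe_cv {g : G} (hg : g ∈ m.NS H1) (v : V) : (cv hg v : G) = g * v * g⁻¹ := rfl

theorem cv_cg {g : G} (hg : g ∈ m.NS H1) (x : L) (v : V) :
    cv hg (m.cg x v) = m.cg (gc (NS.nL hg) x) (cv hg v) := by
  apply Subtype.ext
  show g * ((x : G) * v * (x : G)⁻¹) * g⁻¹ =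
    (g * x * g⁻¹) * (g * v * g⁻¹) * (g * x * g⁻¹)⁻¹
  group

include hs hne in
theorem normZ {g : G} (hg : g ∈ m.NS H1) {z : G} (hz : z ∈ m.Z) : g * z * g⁻¹ ∈ m.Z := by
  rw [m.memZ hs hne] at hz ⊢
  refine ⟨conj_mem (NS.nV hg) hz.1, fun u hu => ?_⟩
  have h1 := hz.2 _ (conj_mem' (NS.nU hg) hu)
  calc g * z * g⁻¹ * u = g * (z * (g⁻¹ * u * g)) * g⁻¹ := by group
    _ = g * ((g⁻¹ * u * g) * z) * g⁻¹ := by rw [h1]
    _ = u * (g * z * g⁻¹) := by group

include S hs hne in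
/-- An involution acting as `s` centralises `Z`. -/
theorem cent_Z {g : G} (hg : g ∈ m.NS H1) {c : K} (hA : IsAut m H1 g s c) (hgg : g * g = 1) :
    ∀ z ∈ m.Z, g * z = z * g := by
  obtain ⟨v1, a1, b1, c1⟩ := m.exists_v hs 0 (map_one s) (map_zero s)
  have hz1 : (v1 : G) ∈ m.Z := m.coe_mem_Z.2 ⟨b1, c1⟩
  set γ := m.a (cv hg v1) with hγ
  have key : ∀ v : V, (v : G) ∈ m.Z → m.a (cv hg v) = m.a v * γ := by
    intro v hv
    obtain ⟨hb, hc⟩ := m.coe_mem_Z.1 hv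
    by_cases ha : m.a v = 0
    · have : v = 1 := m.eq_one ha hb hc
      have h1 : cv hg v = 1 := by
        apply Subtype.ext
        rw [coe_cv, this]
        show g * 1 * g⁻¹ = 1
        group
      rw [h1, ha, m.a_one, zero_mul]
    · obtain ⟨t, ht⟩ := exists_norm (m.s_a v)
      have ht0 : t ≠ 0 := by
        intro h0
        rw [h0, zero_mul] at ht
        exact ha ht.symm
      obtain ⟨x, hx, hxT⟩ := S.onto t ht0
      have hv1 : v = m.cg x v1 := by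
        obtain ⟨e1, e2, e3⟩ := hxT.act v1
        exact m.ext' (by rw [e1, a1, mul_one, ht]) (by rw [e2, b1, mul_zero, hb])
          (by rw [e3, c1, mul_zero, hc])
      rw [hv1, cv_cg]
      have hgT := hA.torus x hx t hxT (gc (NS.nL hg) x) rfl
      rw [(hgT.act (cv hg v1)).1, hs, ← hv1, ← ht, mul_comm (s t) t]
  have hγ1 : γ = 1 := by
    have h1 : (cv hg v1 : G) ∈ m.Z := normZ hs hne hg hz1
    have h2 := key _ h1
    have h3 : cv hg (cv hg v1) = v1 := by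
      apply Subtype.ext
      rw [coe_cv, coe_cv]
      have : g⁻¹ = g := inv_eq_of_mul_eq_one_right hgg
      rw [this]
      calc g * (g * v1 * g) * g = (g * g) * v1 * (g * g) := by group
        _ = v1 := by rw [hgg, one_mul, mul_one]
    rw [h3, a1, ← hγ] at h2
    exact mul_self_inj (by rw [mul_one]; exact h2.symm)
  intro z hz
  have hzV := m.ZV hz
  lift z to V using hzV
  have h1 : (cv hg z : G) ∈ m.Z := normZ hs hne hg hz
  have h2 : cv hg z = z := by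
    obtain ⟨b2, c2⟩ := m.coe_mem_Z.1 h1
    obtain ⟨b3, c3⟩ := m.coe_mem_Z.1 hz
    exact m.ext' (by rw [key z hz, hγ1, mul_one]) (by rw [b2, b3]) (by rw [c2, c3])
  have h3 : g * (z : G) * g⁻¹ = z := congrArg Subtype.val h2
  calc g * (z : G) = g * (z : G) * g⁻¹ * g := by group
    _ = z * g := by rw [h3]

/-! ### The reflection -/

include S in
theorem zpow_conj {g : G} (hg : g ∈ m.NS H1) : ∃ k : ℤ, (h : G) = (g * h * g⁻¹) ^ k := by
  obtain ⟨k, hk⟩ := S.gen _ (conj_mem' (NS.nH hg) S.mem)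
  refine ⟨k, ?_⟩
  have h1 : (g * (h : G) * g⁻¹) ^ k = g * (h : G) ^ k * g⁻¹ := by
    have := map_zpow (MulAut.conj g) (h : G) k
    simpa using this.symm
  rw [h1, ← hk]
  group

include S hne in
/-- An element inverting the torus is antidiagonal. -/
theorem isN_of_inv {y : L} (hy : y * h * y⁻¹ = h⁻¹) : m.IsN (m.P y 0 1) y := by
  have h1 : y * h = h⁻¹ * y := by rw [← hy]; group
  obtain ⟨h0, t1, t2, t3, t4⟩ := S.T
  obtain ⟨-, r1, r2, r3, r4⟩ := S.T.inv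
  have hζ : (ζ : K) + (ζ : K)⁻¹ ≠ 0 := by
    intro h2
    have h3 := eq_of_add_eq_zero h2
    have h4 : (ζ : K) * ζ = 1 * 1 := by
      nth_rewrite 2 [h3]
      rw [mul_inv_cancel₀ h0, mul_one]
    exact S.ζ_one hne (mul_self_inj h4)
  have e00 : m.P y 0 0 = 0 := by
    have h2 : m.P (y * h) 0 0 = m.P (h⁻¹ * y) 0 0 := by rw [h1]
    rw [m.P_mul, m.P_mul, t1, t3, r1, r2] at h2
    have h3 : m.P y 0 0 * ((ζ : K) + (ζ : K)⁻¹) = 0 := by
      have h4 : m.P y 0 0 * ((ζ : K) + (ζ : K)⁻¹) =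
          (m.P y 0 0 * ζ + m.P y 0 1 * 0) + ((ζ : K)⁻¹ * m.P y 0 0 + 0 * m.P y 1 0) := by ring
      rw [h4, h2, add_self]
    exact (mul_eq_zero.mp h3).resolve_right hζ
  have e11 : m.P y 1 1 = 0 := by
    have h2 : m.P (y * h) 1 1 = m.P (h⁻¹ * y) 1 1 := by rw [h1]
    rw [m.P_mul, m.P_mul, t2, t4, r3, r4, inv_inv] at h2
    have h3 : m.P y 1 1 * ((ζ : K) + (ζ : K)⁻¹) = 0 := by
      have h4 : m.P y 1 1 * ((ζ : K) + (ζ : K)⁻¹) =
          (m.P y 1 0 * 0 + m.P y 1 1 * (ζ : K)⁻¹) + (0 * m.P y 0 1 + ζ * m.P y 1 1) := by ring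
      rw [h4, h2, add_self]
    exact (mul_eq_zero.mp h3).resolve_right hζ
  have hd := m.P_det y
  rw [e00, zero_mul, zero_add] at hd
  refine ⟨left_ne_zero_of_mul_eq_one hd, e00, rfl, ?_, e11⟩
  exact eq_inv_of_mul_eq_one_right hd

include S hs hne in
/-- `g` normalises `Z^{n1}`. -/
theorem normE {g : G} (hg : g ∈ m.NS H1) {n : L} (hn : n * h * n⁻¹ = h⁻¹) {v : V}
    (hv : (v : G) ∈ cj (n : G) m.Z) : (cv hg v : G) ∈ cj (n : G) m.Z := by
  have hN := isN_of_inv S hne hn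
  obtain ⟨k, hk⟩ := zpow_conj S hg
  have hgn : gc (NS.nL hg) n * h * (gc (NS.nL hg) n)⁻¹ = h⁻¹ := by
    have e1 : h = (gc (NS.nL hg) h) ^ k := by
      apply Subtype.ext
      rw [Subgroup.coe_zpow]
      exact hk
    have e2 : gc (NS.nL hg) n * gc (NS.nL hg) h * (gc (NS.nL hg) n)⁻¹ = (gc (NS.nL hg) h)⁻¹ := by
      rw [← map_inv, ← map_mul, ← map_mul, hn, map_inv]
    have e3 : gc (NS.nL hg) n * (gc (NS.nL hg) h) ^ k * (gc (NS.nL hg) n)⁻¹ =
        (gc (NS.nL hg) n * gc (NS.nL hg) h * (gc (NS.nL hg) n)⁻¹) ^ k := by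
      have := map_zpow (MulAut.conj (gc (NS.nL hg) n)) (gc (NS.nL hg) h) k
      simpa using this
    calc gc (NS.nL hg) n * h * (gc (NS.nL hg) n)⁻¹
        = gc (NS.nL hg) n * (gc (NS.nL hg) h) ^ k * (gc (NS.nL hg) n)⁻¹ := by rw [← e1]
      _ = ((gc (NS.nL hg) h) ^ k)⁻¹ := by rw [e3, e2, inv_zpow]
      _ = h⁻¹ := by rw [← e1]
  have hgN := isN_of_inv S hne hgn
  rw [mem_cjZ hN]
  rw [← mem_cjZ hgN]
  rw [UFour.mem_cj] at hv ⊢
  have h1 := normZ hs hne hg hv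
  have h2 : ((gc (NS.nL hg) n : L) : G)⁻¹ * (cv hg v : G) * ((gc (NS.nL hg) n : L) : G) =
      g * ((n : G)⁻¹ * v * n) * g⁻¹ := by
    rw [coe_gc, coe_cv]
    group
  rw [h2]
  exact h1

include S hs hne in
/-- An involution acting as `s` centralises `Z^{n1}`. -/
theorem cent_E {g : G} (hg : g ∈ m.NS H1) {c : K} (hA : IsAut m H1 g s c) (hgg : g * g = 1)
    {n : L} (hn : n * h * n⁻¹ = h⁻¹) : ∀ z ∈ cj (n : G) m.Z, g * z = z * g := by
  have hN := isN_of_inv S hne hn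
  obtain ⟨v1, a1, b1, c1⟩ := m.exists_v hs 0 (map_zero s) (map_one s)
  have hz1 : (v1 : G) ∈ cj (n : G) m.Z := (mem_cjZ hN).2 ⟨a1, b1⟩
  set γ := m.c (cv hg v1) with hγ
  have key : ∀ v : V, (v : G) ∈ cj (n : G) m.Z → m.c (cv hg v) = m.c v * γ := by
    intro v hv
    obtain ⟨ha, hb⟩ := (mem_cjZ hN).1 hv
    by_cases hc : m.c v = 0
    · have : v = 1 := m.eq_one ha hb hc
      have h1 : cv hg v = 1 := by
        apply Subtype.ext
        rw [coe_cv, this]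
        show g * 1 * g⁻¹ = 1
        group
      rw [h1, hc, m.c_one, zero_mul]
    · obtain ⟨t, ht⟩ := exists_norm (m.s_c v)
      have ht0 : t ≠ 0 := by
        intro h0
        rw [h0, zero_mul] at ht
        exact hc ht.symm
      have hst0 : s t ≠ 0 := fun h0 => ht0 (s.injective (by rw [h0, map_zero]))
      obtain ⟨x, hx, hxT⟩ := S.onto t⁻¹ (inv_ne_zero ht0)
      have hv1 : v = m.cg x v1 := by
        obtain ⟨e1, e2, e3⟩ := hxT.act v1
        refine m.ext' (by rw [e1, a1, mul_zero, ha]) (by rw [e2, b1, mul_zero, hb]) ?_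
        rw [e3, c1, mul_one, map_inv₀, inv_inv, inv_inv, ht]
      rw [hv1, cv_cg]
      have hgT := hA.torus x hx _ hxT (gc (NS.nL hg) x) rfl
      rw [(hgT.act (cv hg v1)).2.2, hs, ← hv1, ← ht, map_inv₀, inv_inv, inv_inv, mul_comm (s t) t]
  have hγ1 : γ = 1 := by
    have h1 : (cv hg v1 : G) ∈ cj (n : G) m.Z := normE S hs hne hg hn hz1
    have h2 := key _ h1
    have h3 : cv hg (cv hg v1) = v1 := by
      apply Subtype.ext
      rw [coe_cv, coe_cv]
      have : g⁻¹ = g := inv_eq_of_mul_eq_one_right hgg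
      rw [this]
      calc g * (g * v1 * g) * g = (g * g) * v1 * (g * g) := by group
        _ = v1 := by rw [hgg, one_mul, mul_one]
    rw [h3, c1, ← hγ] at h2
    exact mul_self_inj (by rw [mul_one]; exact h2.symm)
  intro z hz
  have hzV : z ∈ V := by
    rw [UFour.mem_cj] at hz
    have h1 := m.ZV hz
    have h2 := conj_mem (m.norm n.2) h1
    have h3 : (n : G) * ((n : G)⁻¹ * z * n) * (n : G)⁻¹ = z := by group
    rwa [h3] at h2
  lift z to V using hzV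
  have h1 : (cv hg z : G) ∈ cj (n : G) m.Z := normE S hs hne hg hn hz
  have h2 : cv hg z = z := by
    obtain ⟨b2, c2⟩ := (mem_cjZ hN).1 h1
    obtain ⟨b3, c3⟩ := (mem_cjZ hN).1 hz
    exact m.ext' (by rw [b2, b3]) (by rw [c2, c3]) (by rw [key z hz, hγ1, mul_one])
  have h3 : g * (z : G) * g⁻¹ = z := congrArg Subtype.val h2
  calc g * (z : G) = g * (z : G) * g⁻¹ * g := by group
    _ = z * g := by rw [h3]

/-! ### Hilbert 90 -/

include hs hne in
/-- **Hilbert 90**: an element of `U g` with square in `V` is conjugate to `g` modulo `V`. -/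
theorem exists_conj_mod {g : G} (hg : g ∈ m.NS H1) {c : K} (hA : IsAut m H1 g s c)
    (hgg : g * g = 1) {r : G} (hr : ∃ u ∈ m.U, r = u * g) (hrr : r * r ∈ V) :
    ∃ u ∈ m.U, ∃ v ∈ V, r = v * (u * g * u⁻¹) := by
  have hginv : g⁻¹ = g := inv_eq_of_mul_eq_one_right hgg
  -- `c s(c) = 1`
  have hcc : c * s c = 1 := by
    have h1 := hA.mul hg hA
    have h2 : IsAut m H1 (g * g) (RingEquiv.refl K) 1 := by rw [hgg]; exact isAut_one
    exact (h1.unique (mul_mem hg hg) h2).2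
  have hc0 : c ≠ 0 := hA.ne
  obtain ⟨_, ⟨u1, rfl, hu1⟩, hr'⟩ := hr
  set b := m.P u1 0 1 with hb
  -- `b = c s(b)`
  have hbc : b = c * s b := by
    obtain ⟨e1, e2⟩ := hA.unip u1 hu1 (gc (NS.nL hg) u1) rfl
    have h1 : ((u1 * gc (NS.nL hg) u1 : L) : G) ∈ V := by
      have h2 : ((u1 * gc (NS.nL hg) u1 : L) : G) = r * r := by
        rw [hr', Subgroup.coe_mul, coe_gc]
        calc (u1 : G) * (g * u1 * g⁻¹) = (u1 : G) * (g * u1 * g) := by rw [hginv]
          _ = (u1 : G) * g * (u1 * g) := by group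
      rw [h2]
      exact hrr
    have h3 := (hu1.mul e1).mem_V.1 h1
    rw [hu1.P_mul e1, e2] at h3
    exact eq_of_add_eq_zero h3
  -- `e` with `c s(e) = e`
  obtain ⟨e, he0, he⟩ : ∃ e : K, e ≠ 0 ∧ c * s e = e := by
    have hall : ∀ k, c * s (k + c * s k) = k + c * s k := by
      intro k
      rw [map_add, map_mul, hs, mul_add, ← mul_assoc, hcc, one_mul, add_comm]
    by_contra hno
    push Not at hno
    have h1 : ∀ k, k + c * s k = 0 := fun k => by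
      by_contra h0
      exact hno _ h0 (hall k)
    have h2 : c = 1 := by
      have := h1 1
      rw [map_one, mul_one] at this
      exact (eq_of_add_eq_zero this).symm
    obtain ⟨k, hk⟩ := exists_moved hne
    have h3 := eq_of_add_eq_zero (h1 k)
    rw [h2, one_mul] at h3
    exact hk h3.symm
  have hse0 : s e ≠ 0 := fun h0 => he0 (s.injective (by rw [h0, map_zero]))
  have hfix : s (b * e⁻¹) = b * e⁻¹ := by
    rw [map_mul, map_inv₀]
    have h1 : b * e⁻¹ = (c * s b) * (c * s e)⁻¹ := by rw [he, ← hbc]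
    rw [h1, mul_inv]
    field_simp
  obtain ⟨y, hy⟩ := exists_trace hs hne hfix
  obtain ⟨u, hu, huw⟩ := m.exists_U (e * y)
  refine ⟨u, m.mem_U.2 hu, r * (u * g * (u : G)⁻¹)⁻¹, ?_, by group⟩
  obtain ⟨f1, f2⟩ := hu.inv
  obtain ⟨e1, e2⟩ := hA.unip u⁻¹ f1 (gc (NS.nL hg) u⁻¹) rfl
  have h1 : r * ((u : G) * g * (u : G)⁻¹)⁻¹ =
      ((u1 * (gc (NS.nL hg) u⁻¹)⁻¹ * u⁻¹ : L) : G) := by
    rw [hr', Subgroup.coe_mul, Subgroup.coe_mul, Subgroup.coe_inv, coe_gc, Subgroup.coe_inv]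
    group
  rw [h1]
  obtain ⟨g1, g2⟩ := e1.inv
  rw [((hu1.mul g1).mul f1).mem_V, (hu1.mul g1).P_mul f1, hu1.P_mul g1, g2, e2, f2, huw, ← hb]
  have h4 : b = e * (y + s y) := by
    rw [hy]
    field_simp
  have h5 : c * s (e * y) = e * s y := by rw [map_mul, ← mul_assoc, he]
  rw [h5, h4]
  have h6 : e * (y + s y) + e * s y + e * y = (e * y + e * y) + (e * s y + e * s y) := by ring
  rw [h6, add_self, add_self, add_zero]

end Inv

end Model

end Cfsg.Agent.RankTwoClose.UFour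

end

section


/-!
# Orders of abelian subgroups of `U`

With `|K| = q^2`: `|V| = q^4`, `|Z| = q`, and an abelian subgroup of `U` which is not contained in `V`
has order at most `q^3`.
-/

set_option autoImplicit false
set_option linter.unusedSectionVars false

namespace Cfsg.Agent.RankTwoClose.UFour

open MField

namespace Model

variable {G : Type*} [Group G] {K : Type*} [Field K] [CharP K 2] {s : K ≃+* K}
  {V L : Subgroup G} (m : Model K s V L)

section Card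

variable [Finite K] (hs : ∀ k, s (s k) = k) (hne : s ≠ RingEquiv.refl K) {q : ℕ}
  (hq : Nat.card K = q ^ 2)

include hs hne hq in
theorem card_fix_eq : Nat.card (fix s) = q := by
  have h1 := card_fix hs hne
  rw [hq, ← pow_two] at h1
  exact Nat.pow_left_injective (n := 2) (by norm_num) h1

include m hs in
/-- The order of `V`. -/
theorem card_V' : Nat.card V = Nat.card (fix s) * (Nat.card K * Nat.card (fix s)) := by
  have e : V ≃ fix s × (K × fix s) :=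
    { toFun := fun v => (⟨m.a v, m.s_a v⟩, (m.b v, ⟨m.c v, m.s_c v⟩))
      invFun := fun x => Classical.choose (m.exists_v hs x.2.1 x.1.2 x.2.2.2)
      left_inv := fun v => by
        obtain ⟨h1, h2, h3⟩ := Classical.choose_spec (m.exists_v hs (m.b v) (m.s_a v) (m.s_c v))
        exact m.ext' h1 h2 h3
      right_inv := fun x => by
        obtain ⟨h1, h2, h3⟩ := Classical.choose_spec (m.exists_v hs x.2.1 x.1.2 x.2.2.2)
        exact Prod.ext (Subtype.ext h1) (Prod.ext h2 (Subtype.ext h3)) }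
  rw [Nat.card_congr e, Nat.card_prod, Nat.card_prod]

include m hs hne hq in
theorem card_V : Nat.card V = q ^ 4 := by
  rw [m.card_V' hs, card_fix_eq hs hne hq, hq]
  ring

include m hs in
theorem finite_V : Finite V := by
  apply Nat.finite_of_card_ne_zero
  rw [m.card_V' hs]
  have h1 : Nat.card (fix s) ≠ 0 := Nat.card_pos.ne'
  have h2 : Nat.card K ≠ 0 := Nat.card_pos.ne'
  exact mul_ne_zero h1 (mul_ne_zero h2 h1)

include hs hne hq in
theorem card_Z : Nat.card m.Z = q := by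
  rw [← card_fix_eq hs hne hq]
  have e : m.Z ≃ fix s :=
    { toFun := fun v => ⟨m.a ⟨v, m.ZV v.2⟩, m.s_a _⟩
      invFun := fun x => ⟨(Classical.choose (m.exists_v hs 0 x.2 (map_zero s)) : V), by
        obtain ⟨h1, h2, h3⟩ := Classical.choose_spec (m.exists_v hs 0 x.2 (map_zero s))
        exact m.coe_mem_Z.2 ⟨h2, h3⟩⟩
      left_inv := fun v => by
        have hv := m.ZV v.2
        obtain ⟨h1, h2, h3⟩ := Classical.choose_spec
          (m.exists_v hs 0 (m.s_a ⟨v, hv⟩) (map_zero s))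
        obtain ⟨g2, g3⟩ := (m.coe_mem_Z (v := ⟨v, hv⟩)).1 v.2
        have := m.ext' (v := Classical.choose (m.exists_v hs 0 (m.s_a ⟨v, hv⟩) (map_zero s)))
          (w := ⟨v, hv⟩) h1 (by rw [h2, g2]) (by rw [h3, g3])
        exact Subtype.ext (congrArg (fun x : V => (x : G)) this)
      right_inv := fun x => by
        obtain ⟨h1, h2, h3⟩ := Classical.choose_spec (m.exists_v hs 0 x.2 (map_zero s))
        exact Subtype.ext h1 }
  exact Nat.card_congr e

variable {m}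

/-- The centraliser in `V` of an element of `U`. -/
theorem IsU.comm_iff {u : L} (hu : m.IsU u) (h0 : m.P u 0 1 ≠ 0) (v : V) :
    (v : G) * u = u * v ↔ m.c v = 0 ∧ s (m.b v * (m.P u 0 1)⁻¹) = m.b v * (m.P u 0 1)⁻¹ := by
  rw [m.comm_iff]
  obtain ⟨h1, h2, h3⟩ := hu.act v
  set w := m.P u 0 1 with hw
  have hsw : s w ≠ 0 := fun h => h0 (s.injective (by rw [h, map_zero]))
  constructor
  · intro h
    rw [h] at h1 h2
    have hc : m.c v = 0 := by
      have := left_eq_add.mp h2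
      exact (mul_eq_zero.mp this).resolve_left h0
    refine ⟨hc, ?_⟩
    rw [hc, mul_zero, add_zero] at h1
    have h4 := eq_of_add_eq_zero (left_eq_add.mp h1)
    rw [map_mul, map_inv₀]
    field_simp
    rw [mul_comm (s (m.b v)), ← h4, mul_comm]
  · rintro ⟨hc, hb⟩
    refine m.ext' ?_ ?_ h3
    · rw [h1, hc, mul_zero, add_zero]
      have h4 : s w * m.b v = w * s (m.b v) := by
        rw [map_mul, map_inv₀] at hb
        field_simp at hb
        rw [mul_comm w]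
        exact hb.symm
      rw [h4, add_self, add_zero]
    · rw [h2, hc, mul_zero, add_zero]

variable (m)

include hs hne hq in
/-- **An abelian subgroup of `U` not contained in `V` has order at most `q^3`.** -/
theorem card_le {A : Subgroup G} (hAU : A ≤ m.U) (hA : ∀ a ∈ A, ∀ b ∈ A, a * b = b * a)
    (hAV : ¬ A ≤ V) : Nat.card A ≤ q ^ 3 := by
  classical
  have := m.finite_V hs
  have hqpos : 0 < q := by
    rw [← card_fix_eq hs hne hq]
    exact Nat.card_pos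
  -- the homomorphism into `K`
  let p : A →* Multiplicative K :=
    { toFun := fun x => Multiplicative.ofAdd (m.P ⟨x, m.UL (hAU x.2)⟩ 0 1)
      map_one' := by
        have : (⟨((1 : A) : G), m.UL (hAU (1 : A).2)⟩ : L) = 1 := rfl
        rw [this, m.P_one]
        rfl
      map_mul' := fun x y => by
        have hx : m.IsU ⟨x, m.UL (hAU x.2)⟩ := m.mem_U.1 (hAU x.2)
        have hy : m.IsU ⟨y, m.UL (hAU y.2)⟩ := m.mem_U.1 (hAU y.2)
        have : (⟨((x * y : A) : G), m.UL (hAU (x * y).2)⟩ : L) =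
          ⟨x, m.UL (hAU x.2)⟩ * ⟨y, m.UL (hAU y.2)⟩ := rfl
        rw [this, hx.P_mul hy]
        rfl }
  have hp : ∀ x : A, p x = Multiplicative.ofAdd (m.P ⟨x, m.UL (hAU x.2)⟩ 0 1) := fun x => rfl
  have hker : ∀ x : A, x ∈ p.ker ↔ (x : G) ∈ V := by
    intro x
    have hx : m.IsU ⟨x, m.UL (hAU x.2)⟩ := m.mem_U.1 (hAU x.2)
    rw [MonoidHom.mem_ker, hp, ofAdd_eq_one]
    exact hx.mem_V.symm
  have hcard : Nat.card A = Nat.card p.range * Nat.card p.ker := by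
    rw [Subgroup.card_eq_card_quotient_mul_card_subgroup p.ker,
      Nat.card_congr (QuotientGroup.quotientKerEquivRange p).toEquiv]
  -- an element outside `V`
  obtain ⟨a0, ha0, ha0V⟩ : ∃ a ∈ A, a ∉ V := by
    by_contra hno
    push Not at hno
    exact hAV hno
  have hU0 : m.IsU ⟨a0, m.UL (hAU ha0)⟩ := m.mem_U.1 (hAU ha0)
  set w0 := m.P ⟨a0, m.UL (hAU ha0)⟩ 0 1 with hw0
  have hw00 : w0 ≠ 0 := fun h => ha0V (hU0.mem_V.2 h)
  -- centralisers
  have hcent : ∀ (a : G) (ha : a ∈ A) (x : A) (hx : (x : G) ∈ V),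
      m.P ⟨a, m.UL (hAU ha)⟩ 0 1 ≠ 0 → m.c ⟨x, hx⟩ = 0 ∧
        s (m.b ⟨x, hx⟩ * (m.P ⟨a, m.UL (hAU ha)⟩ 0 1)⁻¹) =
          m.b ⟨x, hx⟩ * (m.P ⟨a, m.UL (hAU ha)⟩ 0 1)⁻¹ := by
    intro a ha x hx h0
    have hU : m.IsU ⟨a, m.UL (hAU ha)⟩ := m.mem_U.1 (hAU ha)
    exact (hU.comm_iff h0 ⟨x, hx⟩).1 (hA _ x.2 _ ha)
  by_cases hF : ∀ x : A, s (Multiplicative.toAdd (p x) * w0⁻¹) = Multiplicative.toAdd (p x) * w0⁻¹
  · -- `|A V / V| ≤ q`
    have h1 : Nat.card p.range ≤ q := by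
      rw [← card_fix_eq hs hne hq]
      let f : p.range → fix s := fun y => ⟨Multiplicative.toAdd (y : Multiplicative K) * w0⁻¹, by
        obtain ⟨x, hx⟩ := y.2
        rw [mem_fix, ← hx]
        exact hF x⟩
      refine Nat.card_le_card_of_injective f ?_
      intro y y' hyy
      have h2 : Multiplicative.toAdd (y : Multiplicative K) * w0⁻¹ =
        Multiplicative.toAdd (y' : Multiplicative K) * w0⁻¹ := congrArg Subtype.val hyy
      have h3 := mul_right_cancel₀ (inv_ne_zero hw00) h2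
      exact Subtype.ext (Multiplicative.toAdd.injective h3)
    have h2 : Nat.card p.ker ≤ q ^ 2 := by
      let f : p.ker → fix s × fix s := fun x =>
        (⟨m.a ⟨x, (hker x).1 x.2⟩, m.s_a _⟩,
          ⟨m.b ⟨x, (hker x).1 x.2⟩ * w0⁻¹, (hcent a0 ha0 x ((hker x).1 x.2) hw00).2⟩)
      have hf : Function.Injective f := by
        intro x y hxy
        have e1 : m.a ⟨x, (hker x).1 x.2⟩ = m.a ⟨y, (hker y).1 y.2⟩ :=
          congrArg Subtype.val (congrArg Prod.fst hxy)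
        have e2 : m.b ⟨x, (hker x).1 x.2⟩ * w0⁻¹ = m.b ⟨y, (hker y).1 y.2⟩ * w0⁻¹ :=
          congrArg Subtype.val (congrArg Prod.snd hxy)
        have e3 := mul_right_cancel₀ (inv_ne_zero hw00) e2
        have c1 := (hcent a0 ha0 x ((hker x).1 x.2) hw00).1
        have c2 := (hcent a0 ha0 y ((hker y).1 y.2) hw00).1
        have e4 := m.ext' e1 e3 (by rw [c1, c2])
        have e5 : ((x : A) : G) = y := congrArg (fun v : V => (v : G)) e4
        exact Subtype.ext (Subtype.ext e5)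
      have h3 := Nat.card_le_card_of_injective f hf
      rw [Nat.card_prod, card_fix_eq hs hne hq, ← pow_two] at h3
      exact h3
    rw [hcard]
    calc Nat.card p.range * Nat.card p.ker ≤ q * q ^ 2 := Nat.mul_le_mul h1 h2
      _ = q ^ 3 := by ring
  · push Not at hF
    obtain ⟨x1, hx1⟩ := hF
    set w1 := m.P ⟨x1, m.UL (hAU x1.2)⟩ 0 1 with hw1
    have hpx : Multiplicative.toAdd (p x1) = w1 := rfl
    rw [hpx] at hx1
    have hw10 : w1 ≠ 0 := by
      intro h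
      apply hx1
      rw [h, zero_mul, map_zero]
    have h1 : Nat.card p.range ≤ q ^ 2 := by
      rw [← hq]
      exact Nat.card_le_card_of_injective (fun y : p.range => Multiplicative.toAdd (y : Multiplicative K))
        (fun y y' h => Subtype.ext (Multiplicative.toAdd.injective h))
    have h2 : Nat.card p.ker ≤ q := by
      rw [← card_fix_eq hs hne hq]
      -- `b = 0`
      have hb : ∀ (x : A) (hx : (x : G) ∈ V), m.b ⟨x, hx⟩ = 0 := by
        intro x hx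
        by_contra hb
        have e1 := (hcent a0 ha0 x hx hw00).2
        have e2 := (hcent x1 x1.2 x hx hw10).2
        apply hx1
        have e3 : w1 * w0⁻¹ = (m.b ⟨x, hx⟩ * w0⁻¹) * (m.b ⟨x, hx⟩ * w1⁻¹)⁻¹ := by
          rw [mul_inv, inv_inv]
          field_simp
        rw [e3, map_mul, map_inv₀]
        exact congrArg₂ (fun a b => a * b⁻¹) e1 e2
      refine Nat.card_le_card_of_injective
        (fun x : p.ker => (⟨m.a ⟨x, (hker x).1 x.2⟩, m.s_a _⟩ : fix s)) ?_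
      intro x y hxy
      have e1 : m.a ⟨x, (hker x).1 x.2⟩ = m.a ⟨y, (hker y).1 y.2⟩ := congrArg Subtype.val hxy
      have c1 := (hcent a0 ha0 x ((hker x).1 x.2) hw00).1
      have c2 := (hcent a0 ha0 y ((hker y).1 y.2) hw00).1
      have e4 := m.ext' e1 (by rw [hb, hb]) (by rw [c1, c2])
      have e5 : ((x : A) : G) = y := congrArg (fun v : V => (v : G)) e4
      exact Subtype.ext (Subtype.ext e5)
    rw [hcard]
    calc Nat.card p.range * Nat.card p.ker ≤ q ^ 2 * q := Nat.mul_le_mul h1 h2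
      _ = q ^ 3 := by ring

include hs hne hq in
/-- An abelian subgroup of `U` of order at least `q^4` is `V`. -/
theorem eq_V_of_card {A : Subgroup G} (hAU : A ≤ m.U) (hA : ∀ a ∈ A, ∀ b ∈ A, a * b = b * a)
    (hcard : q ^ 4 ≤ Nat.card A) : A = V := by
  have := m.finite_V hs
  have hq2 : 2 ≤ q := by
    have h1 : 1 < Nat.card K := Finite.one_lt_card
    rw [hq] at h1
    by_contra h
    have : q = 0 ∨ q = 1 := by omega
    rcases this with h | h <;> rw [h] at h1 <;> norm_num at h1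
  have hAV : A ≤ V := by
    by_contra h
    have h1 := m.card_le hs hne hq hAU hA h
    have h2 : q ^ 3 < q ^ 4 := Nat.pow_lt_pow_right hq2 (by norm_num)
    omega
  exact Subgroup.eq_of_le_of_card_ge hAV (by rw [m.card_V hs hne hq]; exact hcard)

end Card

end Model

end Cfsg.Agent.RankTwoClose.UFour

end

section


/-!
# Further facts on the natural `O4^-(q)`-module

`[Y, u] = Z` for `u ∈ U - V`, `|Y| = q^3`, and `|C_V(g)| ≤ q^3` for an involution `g` acting as `s` on the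
torus.
-/

set_option autoImplicit false
set_option linter.unusedSectionVars false

namespace Cfsg.Agent.RankTwoClose.UFour

open MField

namespace Model

variable {G : Type*} [Group G] {K : Type*} [Field K] [CharP K 2] {s : K ≃+* K}
  {V L : Subgroup G} (m : Model K s V L)

section Ext

variable (hs : ∀ k, s (s k) = k) (hne : s ≠ RingEquiv.refl K)

include hs hne in
/-- `[Y, u] = Z`. -/
theorem yz : ∀ u ∈ m.U, u ∉ V → ∀ z ∈ m.Z, ∃ y ∈ m.Y, y * u * y⁻¹ * u⁻¹ = z := by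
  rintro _ ⟨u, rfl, hu⟩ huV z hz
  have hw : m.P u 0 1 ≠ 0 := fun h => huV (hu.mem_V.2 h)
  have hsw : s (m.P u 0 1) ≠ 0 := fun h => hw (s.injective (by rw [h, map_zero]))
  obtain ⟨z, rfl, hb, hc⟩ := hz
  obtain ⟨k, hk⟩ := exists_trace hs hne (m.s_a z)
  obtain ⟨v, v1, v2, v3⟩ := m.exists_v hs (k * (s (m.P u 0 1))⁻¹) (map_zero s) (map_zero s)
  refine ⟨v, m.coe_mem_Y.2 v3, ?_⟩
  rw [m.comm_eq]
  congr 1
  obtain ⟨h1, h2, h3⟩ := hu.act v
  refine m.ext' ?_ ?_ ?_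
  · rw [m.a_mul, h1, v1, v2, v3, ← hk, map_mul, map_inv₀, hs]
    field_simp
    ring
  · rw [m.b_mul, h2, v3, mul_zero, add_zero, add_self, hb]
  · rw [m.c_mul, h3, v3, add_zero, hc]

variable [Finite K] {q : ℕ} (hq : Nat.card K = q ^ 2)

include hs hne hq in
theorem card_Y : Nat.card m.Y = q ^ 3 := by
  have e : m.Y ≃ fix s × K :=
    { toFun := fun v => (⟨m.a ⟨v, m.YV v.2⟩, m.s_a _⟩, m.b ⟨v, m.YV v.2⟩)
      invFun := fun x => ⟨(Classical.choose (m.exists_v hs x.2 x.1.2 (map_zero s)) : V), by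
        obtain ⟨h1, h2, h3⟩ := Classical.choose_spec (m.exists_v hs x.2 x.1.2 (map_zero s))
        exact m.coe_mem_Y.2 h3⟩
      left_inv := fun v => by
        have hv := m.YV v.2
        obtain ⟨h1, h2, h3⟩ := Classical.choose_spec
          (m.exists_v hs (m.b ⟨v, hv⟩) (m.s_a ⟨v, hv⟩) (map_zero s))
        have g3 := (m.coe_mem_Y (v := ⟨v, hv⟩)).1 v.2
        have := m.ext' (w := ⟨v, hv⟩) h1 h2 (by rw [h3, g3])
        exact Subtype.ext (congrArg (fun x : V => (x : G)) this)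
      right_inv := fun x => by
        obtain ⟨h1, h2, h3⟩ := Classical.choose_spec (m.exists_v hs x.2 x.1.2 (map_zero s))
        exact Prod.ext (Subtype.ext h1) h2 }
  rw [Nat.card_congr e, Nat.card_prod, card_fix_eq hs hne hq, hq]
  ring

include hs hne hq in
theorem card_Y_le : Nat.card m.Y ≤ Nat.card m.Z ^ 3 := by
  rw [m.card_Y hs hne hq, m.card_Z hs hne hq]

variable {m} {H1 : Subgroup G} {ζ : Kˣ} {h : L} (S : Std m H1 ζ h)

include S hs hne hq in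
/-- The fixed points on `V` of an involution acting as `s`. -/
theorem card_centralizer_le {g : G} (hg : g ∈ m.NS H1) {c : K} (hA : IsAut m H1 g s c)
    (hgg : g * g = 1) : Nat.card (V ⊓ Subgroup.centralizer {g} : Subgroup G) ≤ q ^ 3 := by
  classical
  have := m.finite_V hs
  have hcZ := cent_Z S hs hne hg hA hgg
  set C : Subgroup G := V ⊓ Subgroup.centralizer {g} with hC
  have hCV : C ≤ V := inf_le_left
  have hCg : ∀ v ∈ C, g * v = v * g := fun v hv =>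
    Subgroup.mem_centralizer_iff.1 (Subgroup.mem_inf.1 hv).2 g (Set.mem_singleton g)
  -- the `b`-coordinate of the fixed points in `Y`
  have hb : ∀ v : V, (v : G) ∈ C → m.c v = 0 → s (m.b v) = s c * m.b v := by
    intro v hv hc
    have key : ∀ w : K, s w * (c * s (m.b v) + m.b v) + w * s (c * s (m.b v) + m.b v) = 0 := by
      intro w
      obtain ⟨u, hu, huw⟩ := m.exists_U w
      obtain ⟨e1, e2⟩ := hA.unip u hu (gc (NS.nL hg) u) rfl
      rw [huw] at e2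
      obtain ⟨h1, h2, h3⟩ := hu.act v
      obtain ⟨k1, k2, k3⟩ := e1.act v
      -- the commutators agree
      have hz : ((v * m.cg u v : V) : G) ∈ m.Z := m.coe_mem_Z.2
        ⟨by rw [m.b_mul, h2, hc, mul_zero, add_zero, add_self], by rw [m.c_mul, h3, hc, add_zero]⟩
      have h4 : g * ((v * m.cg u v : V) : G) * g⁻¹ = ((v * m.cg u v : V) : G) := by
        rw [hcZ _ hz, mul_inv_cancel_right]
      have h5 : g * ((v * m.cg u v : V) : G) * g⁻¹ = ((v * m.cg (gc (NS.nL hg) u) v : V) : G) := by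
        have hv' : g * (v : G) * g⁻¹ = v := by rw [hCg _ hv, mul_inv_cancel_right]
        show g * ((v : G) * ((u : G) * v * (u : G)⁻¹)) * g⁻¹ =
          (v : G) * ((g * u * g⁻¹) * v * (g * u * g⁻¹)⁻¹)
        calc g * ((v : G) * ((u : G) * v * (u : G)⁻¹)) * g⁻¹
            = (g * (v : G) * g⁻¹) * ((g * u * g⁻¹) * (g * (v : G) * g⁻¹) * (g * u * g⁻¹)⁻¹) := by
              group
          _ = _ := by rw [hv']
      have h6 : m.a (v * m.cg (gc (NS.nL hg) u) v) = m.a (v * m.cg u v) := by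
        congr 1
        exact Subtype.ext (h5.symm.trans h4)
      rw [m.a_mul, m.a_mul, h1, k1, hc, e2, huw] at h6
      simp only [map_mul, hs, mul_zero, add_zero] at h6
      have h7 := add_left_cancel (add_left_cancel h6)
      -- `h7 : s c * w * b + c * s w * s b = s w * b + w * s b`
      have h8 : s w * (c * s (m.b v) + m.b v) + w * s (c * s (m.b v) + m.b v) =
          (s c * w * m.b v + c * s w * s (m.b v)) + (s w * m.b v + w * s (m.b v)) := by
        rw [map_add, map_mul, hs]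
        ring
      rw [h8, h7, add_self]
    have h1 := eq_of_add_eq_zero (trace_nondeg hs hne key)
    have h2 := congrArg s h1
    rw [map_mul, hs] at h2
    exact h2.symm
  -- the homomorphism
  let p : C →* Multiplicative K :=
    { toFun := fun x => Multiplicative.ofAdd (m.c ⟨x, hCV x.2⟩)
      map_one' := by
        have : (⟨((1 : C) : G), hCV (1 : C).2⟩ : V) = 1 := rfl
        rw [this, m.c_one]
        rfl
      map_mul' := fun x y => by
        have : (⟨((x * y : C) : G), hCV (x * y).2⟩ : V) = ⟨x, hCV x.2⟩ * ⟨y, hCV y.2⟩ := rfl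
        rw [this, m.c_mul]
        rfl }
  have hker : ∀ x : p.ker, m.c ⟨x, hCV (x : C).2⟩ = 0 := fun x =>
    Multiplicative.ofAdd.injective (MonoidHom.mem_ker.1 x.2)
  have hcard : Nat.card C = Nat.card p.range * Nat.card p.ker := by
    rw [Subgroup.card_eq_card_quotient_mul_card_subgroup p.ker,
      Nat.card_congr (QuotientGroup.quotientKerEquivRange p).toEquiv]
  have h1 : Nat.card p.range ≤ q := by
    rw [← card_fix_eq hs hne hq]
    refine Nat.card_le_card_of_injective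
      (fun y : p.range => (⟨Multiplicative.toAdd (y : Multiplicative K), ?_⟩ : fix s)) ?_
    · obtain ⟨x, hx⟩ := y.2
      rw [mem_fix, ← hx]
      exact m.s_c _
    · intro y y' hyy
      exact Subtype.ext (Multiplicative.toAdd.injective
        (congrArg (fun x : fix s => (x : K)) hyy))
  have h2 : Nat.card p.ker ≤ q ^ 2 := by
    by_cases hall : ∀ x : p.ker, m.b ⟨x, hCV (x : C).2⟩ = 0
    · have h3 : Nat.card p.ker ≤ q := by
        rw [← card_fix_eq hs hne hq]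
        refine Nat.card_le_card_of_injective
          (fun x : p.ker => (⟨m.a ⟨x, hCV (x : C).2⟩, m.s_a _⟩ : fix s)) ?_
        intro x y hxy
        have e1 : m.a ⟨x, hCV (x : C).2⟩ = m.a ⟨y, hCV (y : C).2⟩ := congrArg Subtype.val hxy
        have e4 := m.ext' e1 (by rw [hall x, hall y]) (by rw [hker x, hker y])
        have e5 : ((x : C) : G) = y := congrArg (fun v : V => (v : G)) e4
        exact Subtype.ext (Subtype.ext e5)
      refine h3.trans ?_
      rw [pow_two]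
      exact Nat.le_mul_self q
    · push Not at hall
      obtain ⟨x0, hx0⟩ := hall
      have hb0 := hb ⟨x0, hCV (x0 : C).2⟩ (x0 : C).2 (hker x0)
      set b0 := m.b ⟨x0, hCV (x0 : C).2⟩ with hb0d
      have hfix : ∀ x : p.ker, s (m.b ⟨x, hCV (x : C).2⟩ * b0⁻¹) = m.b ⟨x, hCV (x : C).2⟩ * b0⁻¹ := by
        intro x
        rw [map_mul, map_inv₀, hb0, hb ⟨x, hCV (x : C).2⟩ (x : C).2 (hker x)]
        have hsc : s c ≠ 0 := fun h => hA.ne (s.injective (by rw [h, map_zero]))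
        field_simp
      have h3 := Nat.card_le_card_of_injective
        (fun x : p.ker => ((⟨m.a ⟨x, hCV (x : C).2⟩, m.s_a _⟩ : fix s),
          (⟨m.b ⟨x, hCV (x : C).2⟩ * b0⁻¹, hfix x⟩ : fix s))) (by
        intro x y hxy
        have e1 : m.a ⟨x, hCV (x : C).2⟩ = m.a ⟨y, hCV (y : C).2⟩ :=
          congrArg Subtype.val (congrArg Prod.fst hxy)
        have e2 : m.b ⟨x, hCV (x : C).2⟩ * b0⁻¹ = m.b ⟨y, hCV (y : C).2⟩ * b0⁻¹ :=
          congrArg Subtype.val (congrArg Prod.snd hxy)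
        have e3 := mul_right_cancel₀ (inv_ne_zero hx0) e2
        have e4 := m.ext' e1 e3 (by rw [hker x, hker y])
        have e5 : ((x : C) : G) = y := congrArg (fun v : V => (v : G)) e4
        exact Subtype.ext (Subtype.ext e5))
      rw [Nat.card_prod, card_fix_eq hs hne hq, ← pow_two] at h3
      exact h3
  rw [hcard]
  calc Nat.card p.range * Nat.card p.ker ≤ q * q ^ 2 := Nat.mul_le_mul h1 h2
    _ = q ^ 3 := by ring

end Ext

end Model

end Cfsg.Agent.RankTwoClose.UFour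

end

end
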